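import Mathlib
import Cfsg.Agent.Lib.ZJ.Complement
import Cfsg.Agent.Lib.Elementary

/-!
Groups with a proper normal subgroup outside which all elements have order dividing a prime:
the normal subgroup is nilpotent (Thompson, Hughes–Thompson, Kegel).
-/

set_option autoImplicit false

namespace CfsgLib.Frob

open Subgroup
open scoped Pointwise IsMulCommutative

universe u

/-- In a finite nilpotent group elements of coprime orders commute. -/
theorem commute_of_nilpotent_coprime {G : Type u} [Group G] [Finite G] [Group.IsNilpotent G] {a b : G}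
    (h : (orderOf a).Coprime (orderOf b)) : Commute a b := by
  obtain ⟨e⟩ := (Group.isNilpotent_of_finite_tfae (G := G)).out 0 4 rfl rfl |>.mp inferInstance
  suffices Commute (e.symm a) (e.symm b) by simpa using this.map e
  funext q P
  have := Fact.mk (Nat.prime_of_mem_primeFactors q.2)
  show (e.symm a) q P * (e.symm b) q P = (e.symm b) q P * (e.symm a) q P
  by_cases hx : (e.symm a) q P = 1
  · rw [hx, one_mul, mul_one]
  by_cases hy : (e.symm b) q P = 1
  · rw [hy, one_mul, mul_one]
  exfalso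
  have hd : ∀ c : G, (e.symm c) q P ≠ 1 → (q : ℕ) ∣ orderOf c := fun c hc => by
    obtain ⟨k, hk⟩ := IsPGroup.iff_orderOf.mp P.isPGroup' ((e.symm c) q P)
    have h1 : orderOf ((e.symm c) q P) ∣ orderOf c := by
      refine orderOf_dvd_of_pow_eq_one ?_
      have h2 : (e.symm c) ^ orderOf c = 1 := by rw [← map_pow, pow_orderOf_eq_one, map_one]
      exact congrFun (congrFun h2 q) P
    rcases Nat.eq_zero_or_pos k with rfl | hk0
    · exact absurd (orderOf_eq_one_iff.mp (by simpa using hk)) hc
    · exact (dvd_pow_self _ hk0.ne').trans (hk ▸ h1)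
  exact (Nat.prime_of_mem_primeFactors q.2).not_dvd_one (h ▸ Nat.dvd_gcd (hd a hx) (hd b hy))

theorem hasNormalPComplement_of_nilpotent {G : Type u} [Group G] [Finite G] {p : ℕ} [Fact p.Prime]
    (hn : Group.IsNilpotent G) : Cfsg.HasNormalPComplement p G := by
  refine CfsgLib.hasNormalPComplement_of_frobeniusCond fun Q hQ g _ hgp x hx => ?_
  obtain ⟨k, hk⟩ := IsPGroup.iff_orderOf.mp hQ ⟨x, hx⟩
  rw [Subgroup.orderOf_mk] at hk
  exact (commute_of_nilpotent_coprime (by rw [hk]; exact (hgp.pow_right k).symm)).eq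

/-- Twisted power: `(z y)^n = (∏ y^i z y^-i) y^n`. -/
theorem mul_pow_eq_prod {G : Type u} [Group G] (Z : Subgroup G) [IsMulCommutative Z] {y : G}
    (hy : y ∈ Subgroup.normalizer (Z : Set G)) (z : Z) (n : ℕ) :
    ((z : G) * y) ^ n = ((∏ i ∈ Finset.range n,
      Subgroup.normalizerMonoidHom Z (⟨y, hy⟩ ^ i) z : Z) : G) * y ^ n := by
  induction n with
  | zero => simp
  | succ n ih =>
    rw [pow_succ, ih, Finset.prod_range_succ, Subgroup.coe_mul, pow_succ]
    have h1 : ((Subgroup.normalizerMonoidHom Z (⟨y, hy⟩ ^ n) z : Z) : G) = y ^ n * z * (y ^ n)⁻¹ := rfl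
    rw [h1]
    group

/-- The norm argument: if `S ⋊ ⟨x⟩` acts on the abelian `Z` so that every element of the coset
`S x` has `p`th power `1` also in the product with `Z`, and `|S|` is prime to `|Z|`, then any element
of `Z` with trivial `S`-trace is trivial. -/
theorem eq_one_of_norm {G : Type u} [Group G] [Finite G] {p : ℕ} (hp : p.Prime) {Z S : Subgroup G}
    [IsMulCommutative Z] (hSZ : S ≤ Subgroup.normalizer (Z : Set G)) {x : G}
    (hxZ : x ∈ Subgroup.normalizer (Z : Set G)) (hxS : x ∈ Subgroup.normalizer (S : Set G))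
    (hpow : ∀ k ∈ S, ∀ z ∈ Z, (z * (k * x)) ^ p = 1)
    (hcop : (Nat.card S).Coprime (Nat.card Z))
    (hC : Z ⊓ Subgroup.centralizer (S : Set G) = ⊥) : Z = ⊥ := by
  classical
  have := Fintype.ofFinite S
  rw [Subgroup.eq_bot_iff_forall]
  intro z₀ hz₀
  set σ := Subgroup.normalizerMonoidHom Z with hσ
  set x' : Subgroup.normalizer (Z : Set G) := ⟨x, hxZ⟩ with hx'
  set ι : S → Subgroup.normalizer (Z : Set G) := fun k => ⟨k, hSZ k.2⟩ with hι
  set z : Z := ⟨z₀, hz₀⟩ with hz
  -- traces are fixed by `S`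
  have hM : ∀ w : Z, ∏ k : S, σ (ι k) w = 1 := fun w => by
    have h1 : ((∏ k : S, σ (ι k) w : Z) : G) ∈ Z ⊓ Subgroup.centralizer (S : Set G) := by
      refine ⟨SetLike.coe_mem _, fun s hs => ?_⟩
      have h2 : σ (ι ⟨s, hs⟩) (∏ k : S, σ (ι k) w) = ∏ k : S, σ (ι k) w := by
        rw [map_prod]
        refine Fintype.prod_equiv (Equiv.mulLeft (⟨s, hs⟩ : S)) _ _ fun k => ?_
        show σ (ι ⟨s, hs⟩) (σ (ι k) w) = σ (ι (⟨s, hs⟩ * k)) w
        rw [← MulAut.mul_apply, ← map_mul]
        rfl
      have h3 := congrArg (Subtype.val : Z → G) h2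
      change s * _ * s⁻¹ = _ at h3
      exact mul_inv_eq_iff_eq_mul.mp h3
    rw [hC, Subgroup.mem_bot] at h1
    exact Subtype.ext h1
  -- each norm is trivial
  have hN : ∀ k : S, ∏ i ∈ Finset.range p, σ ((ι k * x') ^ i) z = 1 := fun k => by
    have h1 := mul_pow_eq_prod Z (y := (k : G) * x) (mul_mem (hSZ k.2) hxZ) z p
    have h2 : ((k : G) * x) ^ p = 1 := by simpa using hpow k k.2 1 Z.one_mem
    rw [hpow k k.2 z z.2, h2, mul_one] at h1
    exact Subtype.ext h1.symm
  have hnorm : ∀ (k : G), k ∈ S → ∀ n : ℕ, (k * x) ^ n * (x ^ n)⁻¹ ∈ S := fun k hk n => by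
    induction n with
    | zero => simp
    | succ n ih =>
      have h1 : x ^ n * k * (x ^ n)⁻¹ ∈ S :=
        (Subgroup.mem_normalizer_iff.mp (pow_mem hxS n) k).mp hk
      have h2 := S.mul_mem ih h1
      have e : (k * x) ^ (n + 1) * (x ^ (n + 1))⁻¹ =
          (k * x) ^ n * (x ^ n)⁻¹ * (x ^ n * k * (x ^ n)⁻¹) := by rw [pow_succ, pow_succ]; group
      rwa [e]
  have hi : ∀ i ∈ Finset.range p, i ≠ 0 → ∏ k : S, σ ((ι k * x') ^ i) z = 1 := fun i hi hi0 => by
    let f : S → S := fun k => ⟨((k : G) * x) ^ i * (x ^ i)⁻¹, hnorm k k.2 i⟩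
    have hf : Function.Injective f := fun a b hab => by
      have h1 : ((a : G) * x) ^ i = ((b : G) * x) ^ i :=
        mul_right_cancel (congrArg Subtype.val hab)
      have hcp : i.Coprime p :=
        (Nat.coprime_of_lt_prime hi0 (Finset.mem_range.mp hi) hp).symm
      obtain ⟨j, hj⟩ := Nat.exists_mul_mod_eq_one_of_coprime hcp hp.one_lt
      have h2 : ∀ c : S, ((c : G) * x) = (((c : G) * x) ^ i) ^ j := fun c => by
        have h3 : ((c : G) * x) ^ p = 1 := by simpa using hpow c c.2 1 Z.one_mem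
        rw [← pow_mul, pow_eq_pow_mod _ h3, hj.2, pow_one]
      have h4 : (a : G) * x = (b : G) * x := by rw [h2 a, h2 b, h1]
      exact Subtype.ext (mul_right_cancel h4)
    rw [Fintype.prod_equiv (Equiv.ofBijective f (Finite.injective_iff_bijective.mp hf))
      (fun k : S => σ ((ι k * x') ^ i) z) (fun k : S => σ (ι k) (σ (x' ^ i) z)) fun k => ?_]
    · exact hM _
    · rw [← MulAut.mul_apply, ← map_mul]
      congr 2
      apply Subtype.ext
      show ((k : G) * x) ^ i = ((k : G) * x) ^ i * (x ^ i)⁻¹ * x ^ i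
      group
  have h0 : (0 : ℕ) ∈ Finset.range p := Finset.mem_range.mpr hp.pos
  have hall : ∏ k : S, ∏ i ∈ Finset.range p, σ ((ι k * x') ^ i) z = 1 :=
    Finset.prod_eq_one fun k _ => hN k
  rw [Finset.prod_comm, ← Finset.mul_prod_erase _ _ h0,
    Finset.prod_eq_one (s := (Finset.range p).erase 0)
      (fun i hi' => hi i (Finset.mem_of_mem_erase hi') (Finset.ne_of_mem_erase hi')), mul_one] at hall
  have hcard : z ^ Nat.card S = 1 := by
    simpa [← Nat.card_eq_fintype_card] using hall
  have : orderOf z ∣ 1 := hcop ▸ Nat.dvd_gcd (orderOf_dvd_of_pow_eq_one hcard) (orderOf_dvd_natCard z)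
  exact congrArg Subtype.val (orderOf_eq_one_iff.mp (Nat.dvd_one.mp this))

/-- A finite group with a proper normal subgroup `H` outside which all elements satisfy `g ^ p = 1`:
`H` is nilpotent. -/
theorem isNilpotent_of_pow_eq_one_outside {Γ : Type u} [Group Γ] [Finite Γ] {p : ℕ} (hp : p.Prime)
    (H : Subgroup Γ) [hHn : H.Normal] (hH : H ≠ ⊤) (hout : ∀ g, g ∉ H → g ^ p = 1) :
    Group.IsNilpotent H := by
  induction hn : Nat.card Γ using Nat.strong_induction_on generalizing Γ with
  | h n ih =>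
  subst hn
  by_cases h2 : IsPGroup 2 H
  · have := Fact.mk Nat.prime_two
    exact h2.isNilpotent
  obtain ⟨q, hq, hq2, hqH⟩ : ∃ q, q.Prime ∧ q ≠ 2 ∧ q ∣ Nat.card H := by
    by_contra hc
    push Not at hc
    refine h2 (IsPGroup.of_card (n := (Nat.card H).primeFactorsList.length)
      (Nat.eq_prime_pow_of_unique_prime_dvd Nat.card_pos.ne' fun {d} hd hdvd => ?_))
    by_contra hne
    exact hc d hd hne hdvd
  have := Fact.mk hq
  have sub_nil : ∀ Δ : Subgroup Γ, Δ ≠ ⊤ → ¬ Δ ≤ H → Group.IsNilpotent (H.subgroupOf Δ) := by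
    intro Δ hΔ hle
    refine ih (Nat.card Δ) ?_ (H.subgroupOf Δ) ?_ (fun g hg => Subtype.ext ?_) rfl
    · exact lt_of_le_of_ne (Subgroup.card_le_card_group Δ) fun e => hΔ (Subgroup.eq_top_of_card_eq _ e)
    · exact fun e => hle (Subgroup.subgroupOf_eq_top.mp e)
    · simpa using hout g fun h => hg (Subgroup.mem_subgroupOf.mpr h)
  obtain ⟨Y, hYn, hYH, hY0, hYs⟩ :
      ∃ Y : Subgroup Γ, Y.Normal ∧ Y ≤ H ∧ Y ≠ ⊥ ∧ Group.IsSolvable Y := by
    obtain ⟨Q⟩ : Nonempty (Sylow q H) := inferInstance
    set Qg := (Q : Subgroup H).map H.subtype with hQg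
    set W := CfsgLib.ZJ.zj 0 Qg with hW
    obtain ⟨x, hxQ, hxH⟩ : ∃ x ∈ Subgroup.normalizer (Qg : Set Γ), x ∉ H := by
      refine SetLike.not_le_iff_exists.mp fun hle => hH ?_
      rw [← Sylow.normalizer_sup_eq_top Q, sup_eq_right.mpr hle]
    have hxW := CfsgLib.ZJ.normalizer_le_normalizer_zj 0 Qg hxQ
    have hWH : W ≤ H := (CfsgLib.ZJ.zj_le 0 Qg).trans (Subgroup.map_subtype_le _)
    have hQne : (Q : Subgroup H) ≠ ⊥ := Q.ne_bot_of_dvd_card hqH
    have hQgp : IsPGroup q Qg := Q.isPGroup'.map _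
    by_cases hN : Subgroup.normalizer (W : Set Γ) = ⊤
    · have hWp : IsPGroup q W := hQgp.to_le (CfsgLib.ZJ.zj_le 0 Qg)
      have := hWp.isNilpotent
      refine ⟨W, Subgroup.normalizer_eq_top_iff.mp hN, hWH, ?_, inferInstance⟩
      refine CfsgLib.ZJ.zj_ne_bot (Or.inl rfl) hQgp ?_
      rwa [Ne, Subgroup.map_eq_bot_iff_of_injective _ H.subtype_injective]
    · have h1 := sub_nil _ hN fun hle => hxH (hle hxW)
      have h3 : Group.IsNilpotent ((Subgroup.normalizer (W : Set Γ)).subgroupOf H) := by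
        have e1 := ((Subgroup.equivMapOfInjective (H.subgroupOf (Subgroup.normalizer (W : Set Γ))) _
          (Subgroup.subtype_injective _)).trans (MulEquiv.subgroupCongr ((Subgroup.subgroupOf_map_subtype _ _).trans
            ((inf_comm _ _).trans (Subgroup.subgroupOf_map_subtype _ _).symm)))).trans
          (Subgroup.equivMapOfInjective ((Subgroup.normalizer (W : Set Γ)).subgroupOf H) _
          H.subtype_injective).symm
        exact Group.nilpotent_of_mulEquiv e1
      have h4 : Cfsg.HasNormalPComplement q H := by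
        refine CfsgLib.ZJ.hasNormalPComplement_of_normalizer_zj hq2 (Or.inl rfl) Q
          (CfsgLib.ZJ.hasNormalPComplement_of_le ?_ (hasNormalPComplement_of_nilpotent h3))
        rw [hW, hQg, CfsgLib.ZJ.zj_map 0 H.subtype_injective]
        exact fun g hg => Subgroup.le_normalizer_map H.subtype ⟨g, hg, rfl⟩
      set K := (Cfsg.pPrimeCore q H).map H.subtype with hK
      have hKn : K.Normal := inferInstance
      have hKH : K ≤ H := Subgroup.map_subtype_le _
      by_cases hK0 : K = ⊥
      · refine ⟨H, hHn, le_rfl, ?_, ?_⟩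
        · rintro rfl
          simp at hqH
          exact hq.not_dvd_one (hqH ▸ dvd_rfl)
        · rw [hK, Subgroup.map_eq_bot_iff_of_injective _ H.subtype_injective] at hK0
          have hp' := (CfsgLib.hasNormalPComplement_iff.mp h4).of_equiv
            ((QuotientGroup.quotientMulEquivOfEq hK0).trans QuotientGroup.quotientBot)
          have := hp'.isNilpotent
          infer_instance
      · have hKlt : ¬ H ≤ K := by
          intro hle
          have h5 := CfsgLib.card_pPrimeCore_coprime (G := H) q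
          have h6 : Nat.card K = Nat.card (Cfsg.pPrimeCore q H) :=
            Subgroup.card_map_of_injective H.subtype_injective
          rw [← h6, le_antisymm hKH hle] at h5
          exact hq.coprime_iff_not_dvd.mp h5.symm hqH
        have hxp : x ^ p = 1 := hout x hxH
        have := Fact.mk hp
        have hxo : orderOf x = p := orderOf_eq_prime hxp (by rintro rfl; exact hxH H.one_mem)
        set Δ := K ⊔ Subgroup.zpowers x with hΔdef
        have hΔ : Δ ≠ ⊤ := by
          intro hT
          refine hKlt fun h hh => ?_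
          have hhΔ : h ∈ K ⊔ Subgroup.zpowers x := (hT.symm.le : ⊤ ≤ Δ) (Subgroup.mem_top h)
          obtain ⟨k, hk, w, hw, rfl⟩ := Subgroup.mem_sup_of_normal_left.mp hhΔ
          have hwH : w ∈ H := by simpa using H.mul_mem (H.inv_mem (hKH hk)) hh
          have hw1 : w = 1 := by
            by_contra hw1
            have h7 : orderOf w = p := ((Nat.dvd_prime hp).mp
              (hxo ▸ orderOf_dvd_of_mem_zpowers hw)).resolve_left (by simpa [orderOf_eq_one_iff] using hw1)
            have h8 : Subgroup.zpowers w = Subgroup.zpowers x :=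
              Subgroup.eq_of_le_of_card_ge (Subgroup.zpowers_le.mpr hw)
                (by rw [Nat.card_zpowers, Nat.card_zpowers, h7, hxo])
            exact hxH (Subgroup.zpowers_le.mpr hwH (h8 ▸ Subgroup.mem_zpowers x))
          rw [hw1, mul_one]; exact hk
        have h9 := sub_nil Δ hΔ fun hle => hxH (hle (Subgroup.mem_sup_right (Subgroup.mem_zpowers x)))
        have hKnil : Group.IsNilpotent K := by
          have h11 : K.subgroupOf Δ ≤ H.subgroupOf Δ := fun g hg => hKH hg
          have h12 : Group.IsNilpotent (K.subgroupOf Δ) :=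
            Group.nilpotent_of_mulEquiv (Subgroup.subgroupOfEquivOfLe h11)
          exact Group.nilpotent_of_mulEquiv (Subgroup.subgroupOfEquivOfLe (le_sup_left (b := Subgroup.zpowers x)))
        exact ⟨K, hKn, hKH, hK0, inferInstance⟩
  obtain ⟨Z, hZn, hZY, hZ0, hZmin⟩ := CfsgLib.exists_minimal_normal hY0
  have hZs : Group.IsSolvable Z :=
    Group.isSolvable_of_isSolvable_injective (Subgroup.inclusion_injective hZY)
  obtain ⟨hZc, r, hr, hZr⟩ := CfsgLib.minimal_normal_elementary hZ0 hZs hZmin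
  have := hZc
  have := Fact.mk hr
  have hZH : Z ≤ H := hZY.trans hYH
  have hZp : IsPGroup r Z := fun z => ⟨1, by rw [pow_one]; exact Subtype.ext (hZr z z.2)⟩
  set π := QuotientGroup.mk' Z with hπ
  have hbar : Group.IsNilpotent (H.map π) := by
    have hsurj := QuotientGroup.mk'_surjective Z
    have : (H.map π).Normal := hHn.map π hsurj
    refine ih (Nat.card (Γ ⧸ Z)) ?_ (H.map π) ?_ ?_ rfl
    · rw [← Subgroup.card_mul_index Z, Subgroup.index_eq_card]
      exact lt_mul_of_one_lt_left Nat.card_pos ((Subgroup.one_lt_card_iff_ne_bot Z).mpr hZ0)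
    · intro e
      apply hH
      have := congrArg (Subgroup.comap π) e
      rwa [Subgroup.comap_map_eq, QuotientGroup.ker_mk', sup_eq_left.mpr hZH, Subgroup.comap_top] at this
    · intro g hg
      obtain ⟨g, rfl⟩ := hsurj g
      rw [← map_pow, hout g fun h => hg (Subgroup.mem_map_of_mem _ h), map_one]
  refine (Group.isNilpotent_of_finite_tfae (G := H)).out 0 3 rfl rfl |>.mpr fun s hs S => ?_
  have := hs
  -- the preimage of the image of `S` is normal
  set Sg := (S : Subgroup H).map H.subtype with hSg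
  set T := Sg ⊔ Z with hT
  have hTn : T.Normal := by
    have : (H.map π).Normal := hHn.map π (QuotientGroup.mk'_surjective Z)
    have hSb : IsPGroup s (S : Subgroup H) := S.isPGroup'
    let S' : Sylow s (H.map π) := S.mapSurjective (π.subgroupMap_surjective H)
    have hS'c : (S' : Subgroup (H.map π)).Characteristic :=
      Sylow.characteristic_of_normal S' inferInstance
    have hN : ((S' : Subgroup (H.map π)).map (H.map π).subtype).Normal := inferInstance
    have e : (S' : Subgroup (H.map π)).map (H.map π).subtype = Sg.map π := by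
      rw [Sylow.coe_mapSurjective, Subgroup.map_map, hSg, Subgroup.map_map]
      rfl
    rw [e] at hN
    have h1 := hN.comap π
    rwa [Subgroup.comap_map_eq, QuotientGroup.ker_mk'] at h1
  have hTH : T ≤ H := sup_le (Subgroup.map_subtype_le _) hZH
  suffices hS : Sg.Normal by
    have h1 := hS.comap H.subtype
    rwa [hSg, Subgroup.comap_map_eq_self_of_injective H.subtype_injective] at h1
  by_cases hsr : s = r
  · subst hsr
    have hle : Z.subgroupOf H ≤ (S : Subgroup H) :=
      hZp.comap_subtype.le_sylow_of_normal S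
    have : Z ≤ Sg := by
      have h1 := Subgroup.map_mono (f := H.subtype) hle
      rwa [Subgroup.map_subgroupOf_eq_of_le hZH] at h1
    rwa [hT, sup_eq_left.mpr this] at hTn
  -- `s ≠ r`
  have hSp : IsPGroup s Sg := S.isPGroup'.map _
  have hcop : (Nat.card Sg).Coprime (Nat.card Z) := IsPGroup.coprime_card_of_ne s r hsr Sg Z hSp hZp
  have key : ∃ S₁ : Sylow s T, (S₁ : Subgroup T).map T.subtype = Sg := by
    have hp' : IsPGroup s (Sg.subgroupOf T) := hSp.comap_subtype
    have hidx : ¬ s ∣ (Sg.subgroupOf T).index := fun hd => by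
      have h1 : Nat.card T ∣ Nat.card Sg * Nat.card Z := CfsgLib.card_sup_dvd_mul Sg Z
      rw [← Subgroup.card_mul_index (Sg.subgroupOf T),
        Nat.card_congr (Subgroup.subgroupOfEquivOfLe (le_sup_left : Sg ≤ T)).toEquiv] at h1
      have h2 := hd.trans (Nat.dvd_of_mul_dvd_mul_left Nat.card_pos h1)
      obtain ⟨k, hk⟩ := hZp.exists_card_eq
      rw [hk] at h2
      exact hsr ((Nat.prime_dvd_prime_iff_eq hs.out hr).mp (hs.out.dvd_of_dvd_pow h2))
    exact ⟨hp'.toSylow hidx, Subgroup.map_subgroupOf_eq_of_le le_sup_left⟩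
  suffices hcz : Z ≤ Subgroup.centralizer (Sg : Set Γ) by
    have hTN : T ≤ Subgroup.normalizer (Sg : Set Γ) :=
      sup_le Subgroup.le_normalizer (hcz.trans (Subgroup.centralizer_le_normalizer _))
    obtain ⟨S₁, hS₁⟩ := key
    have h1 := Sylow.normalizer_sup_eq_top S₁
    rw [hS₁, sup_eq_left.mpr hTN] at h1
    exact Subgroup.normalizer_eq_top_iff.mp h1
  obtain ⟨S₁, hS₁⟩ := key
  obtain ⟨x, hxS, hxH⟩ : ∃ x ∈ Subgroup.normalizer (Sg : Set Γ), x ∉ H := by
    refine SetLike.not_le_iff_exists.mp fun hle => hH (top_le_iff.mp ?_)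
    rw [← Sylow.normalizer_sup_eq_top S₁, hS₁]
    exact sup_le hle hTH
  rcases hZmin (Z ⊓ Subgroup.centralizer (T : Set Γ)) inferInstance inf_le_left with hC | hC
  swap
  · exact (inf_eq_left.mp hC).trans (Subgroup.centralizer_le (SetLike.coe_subset_coe.mpr (le_sup_left : Sg ≤ T)))
  exfalso
  refine hZ0 (eq_one_of_norm hp (x := x) ?_ ?_ hxS (fun k hk z hz => hout _ fun h => hxH ?_) hcop ?_)
  · rw [Subgroup.normalizer_eq_top]; exact le_top
  · rw [Subgroup.normalizer_eq_top]; exact Subgroup.mem_top _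
  · have h1 := H.mul_mem (H.inv_mem (H.mul_mem (hZH hz) ((Subgroup.map_subtype_le _) hk))) h
    simpa [mul_assoc] using h1
  · rw [eq_bot_iff, ← hC]
    refine le_inf inf_le_left fun z hz => ?_
    rw [Subgroup.mem_centralizer_iff]
    intro t ht
    have h1 : T ≤ Subgroup.centralizer ({z} : Set Γ) := by
      refine sup_le (fun s hs => ?_) (fun z' hz' => ?_) <;> rw [Subgroup.mem_centralizer_singleton_iff]
      · exact Subgroup.mem_centralizer_iff.mp hz.2 s hs
      · exact congrArg Subtype.val (mul_comm (⟨z', hz'⟩ : Z) ⟨z, hz.1⟩)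
    exact Subgroup.mem_centralizer_singleton_iff.mp (h1 ht)

end CfsgLib.Frob
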