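import Mathlib
import Cfsg.Agent.Lib.Frobenius.Splitting

/-!
Fixed-point-free automorphisms: cosets, invariant Sylow subgroups, Thompson's nilpotency theorem.
-/

set_option autoImplicit false

namespace CfsgLib.Frob

open Subgroup
open scoped Pointwise

universe u
variable {G : Type u} [Group G] [Finite G]

theorem fpf_mem_of_coset (φ : G →* G) (hφ : MonoidHom.FixedPointFree φ) (N : Subgroup G)
    (hN : ∀ n ∈ N, φ n ∈ N) {x : G} (hx : (φ x)⁻¹ * x ∈ N) : x ∈ N := by
  have hinj : ∀ a b : G, (φ a)⁻¹ * a = (φ b)⁻¹ * b → a = b := fun a b h => by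
    have h1 : φ (a * b⁻¹) = a * b⁻¹ := by
      rw [map_mul, map_inv]
      calc φ a * (φ b)⁻¹ = φ a * ((φ b)⁻¹ * b) * b⁻¹ := by group
        _ = a * b⁻¹ := by rw [← h]; group
    exact mul_inv_eq_one.mp (hφ _ h1)
  let f : N → N := fun n => ⟨(φ n)⁻¹ * n, N.mul_mem (N.inv_mem (hN n n.2)) n.2⟩
  obtain ⟨n, hn⟩ := Finite.surjective_of_injective
    (f := f) (fun a b h => Subtype.ext (hinj a b (congrArg Subtype.val h))) ⟨_, hx⟩
  exact hinj _ _ (congrArg Subtype.val hn) ▸ n.2

theorem fpf_surjective_inv_mul (φ : G →* G) (hφ : MonoidHom.FixedPointFree φ) (m : G) :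
    ∃ h : G, h⁻¹ * φ h = m := by
  refine Finite.surjective_of_injective (f := fun h : G => h⁻¹ * φ h) (fun a b h => ?_) m
  have h1 : φ (a * b⁻¹) = a * b⁻¹ := by
    rw [map_mul, map_inv]
    calc φ a * (φ b)⁻¹ = a * (a⁻¹ * φ a) * (φ b)⁻¹ := by group
      _ = a * (b⁻¹ * φ b) * (φ b)⁻¹ := by rw [show a⁻¹ * φ a = b⁻¹ * φ b from h]
      _ = a * b⁻¹ := by group
  exact mul_inv_eq_one.mp (hφ _ h1)

theorem fpf_exists_invariant_sylow (φ : G ≃* G) (hφ : MonoidHom.FixedPointFree (φ : G →* G)) (p : ℕ)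
    [Fact p.Prime] : ∃ P : Sylow p G, (P : Subgroup G).map (φ : G →* G) = P := by
  obtain ⟨P⟩ : Nonempty (Sylow p G) := inferInstance
  let P' : Sylow p G := P.mapSurjective (f := (φ : G →* G)) φ.surjective
  obtain ⟨g, hg⟩ := MulAction.exists_smul_eq G P P'
  obtain ⟨h, hh⟩ := fpf_surjective_inv_mul (φ : G →* G) hφ g⁻¹
  have hh' : φ h = h * g⁻¹ := by
    calc φ h = h * (h⁻¹ * φ h) := by group
      _ = h * g⁻¹ := by rw [show h⁻¹ * φ h = g⁻¹ from hh]
  refine ⟨h • P, ?_⟩
  have hg' : MulAut.conj g • (P : Subgroup G) = (P : Subgroup G).map (φ : G →* G) := by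
    rw [← Sylow.coe_subgroup_smul, hg]; rfl
  have e : ((h • P : Sylow p G) : Subgroup G).map (φ : G →* G) =
      MulAut.conj (φ h) • ((P : Subgroup G).map (φ : G →* G)) := by
    ext y
    rw [mem_conj_smul_iff, Sylow.coe_subgroup_smul, Subgroup.mem_map, Subgroup.mem_map]
    constructor
    · rintro ⟨a, ha, rfl⟩
      rw [mem_conj_smul_iff] at ha
      exact ⟨h⁻¹ * a * h, ha, by simp [map_mul, map_inv]⟩
    · rintro ⟨a, ha, hy⟩
      refine ⟨h * a * h⁻¹, mem_conj_smul_iff.mpr (by simpa [mul_assoc] using ha), ?_⟩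
      rw [map_mul, map_mul, map_inv, hy]
      show φ h * ((φ h)⁻¹ * y * φ h) * (φ h)⁻¹ = y
      group
  rw [e, ← hg', ← mul_smul, ← map_mul, Sylow.coe_subgroup_smul, hh']
  congr 2
  group

theorem mulAut_pow_apply {H : Type u} [Group H] (ψ : MulAut H) (n : ℕ) (y : H) : (ψ ^ n) y = (⇑ψ)^[n] y := by
  induction n generalizing y with
  | zero => rfl
  | succ n ih => rw [pow_succ, MulAut.mul_apply, ih, Function.iterate_succ_apply]

/-- **Thompson's theorem.** -/
theorem isNilpotent_of_fpf_prime (φ : G ≃* G) (hφ : MonoidHom.FixedPointFree (φ : G →* G)) {p : ℕ}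
    (hp : p.Prime) (hord : orderOf φ = p) : Group.IsNilpotent G := by
  set C := Subgroup.zpowers φ with hC
  set Γ := G ⋊[C.subtype] C
  set H := (SemidirectProduct.inl (φ := C.subtype)).range with hH
  have hHn : H.Normal := by
    rw [hH, SemidirectProduct.range_inl_eq_ker_rightHom]; infer_instance
  have hcard : Nat.card C = p := by rw [hC, Nat.card_zpowers, hord]
  have := Fact.mk hp
  have hfpf : ∀ ψ : C, ψ ≠ 1 → MonoidHom.FixedPointFree ((ψ : MulAut G) : G ≃* G) := by
    intro ψ hψ g hg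
    refine hφ g ?_
    have h1 : (⟨φ, Subgroup.mem_zpowers φ⟩ : C) ∈ Subgroup.zpowers ψ := by
      rw [zpowers_eq_top_of_prime_card hcard hψ]; trivial
    obtain ⟨k, hk⟩ := h1
    have h2 : (ψ : MulAut G) ^ k = φ := congrArg Subtype.val hk
    have h3 : (ψ : MulAut G) ∈ MulAction.stabilizer (MulAut G) g := hg
    exact MulAction.mem_stabilizer_iff.mp (h2 ▸ zpow_mem h3 k)
  have : Finite Γ := Finite.of_equiv _ SemidirectProduct.equivProd.symm
  have hHne : H ≠ ⊤ := by
    intro e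
    have h1 : (SemidirectProduct.inr (⟨φ, Subgroup.mem_zpowers φ⟩ : C) : Γ) ∈ H := e ▸ Subgroup.mem_top _
    obtain ⟨g, hg⟩ := h1
    have h2 : φ = 1 := congrArg (fun γ : Γ => (γ.right : MulAut G)) hg.symm
    rw [h2, orderOf_one] at hord
    exact hp.one_lt.ne hord
  have hnil := isNilpotent_of_pow_eq_one_outside hp H hHne fun γ hγ => by
    obtain ⟨g, ψ⟩ := γ
    have hψ : ψ ≠ 1 := fun h => hγ ⟨g, by subst h; rfl⟩
    have hpw : ∀ n : ℕ, ((⟨g, ψ⟩ : Γ) ^ n) =
        ⟨((List.range n).map (fun k => (⇑(ψ : MulAut G))^[k] g)).prod, ψ ^ n⟩ := by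
      intro n
      induction n with
      | zero => rfl
      | succ n ih =>
        rw [pow_succ, ih]
        refine SemidirectProduct.ext ?_ ?_
        · rw [List.range_succ, List.map_append, List.prod_append]
          show _ * ((ψ ^ n : C) : MulAut G) g = _
          rw [Subgroup.coe_pow]
          simp [mulAut_pow_apply]
        · rw [SemidirectProduct.mul_right, pow_succ]
    have h4 : ψ ^ p = 1 := hcard ▸ pow_card_eq_one'
    have h5 : (⇑(ψ : MulAut G))^[p] = _root_.id := by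
      funext y
      rw [← mulAut_pow_apply, ← Subgroup.coe_pow, h4]; rfl
    rw [hpw, h4, MonoidHom.FixedPointFree.prod_pow_eq_one (hfpf ψ hψ) h5 g]
    rfl
  exact Group.nilpotent_of_mulEquiv
    (MonoidHom.ofInjective (f := (SemidirectProduct.inl (φ := C.subtype))) SemidirectProduct.inl_injective).symm

end CfsgLib.Frob
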