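import Mathlib
import Cfsg.Prelude.Def_Solvable
import Cfsg.Agent.Lib.Coprime
import Cfsg.Agent.Lib.CharTheory.TI
import Cfsg.Agent.Lib.CharTheory.Linear
import Cfsg.Agent.Lib.Frobenius.FixedPointFree

/-!
Frobenius groups: the kernel theorem, nilpotency of the kernel, conjugacy of complements.
-/

set_option autoImplicit false

namespace CfsgLib.Frob

open Cfsg Subgroup
open scoped Pointwise

universe u
variable {G : Type u} [Group G] {H : Subgroup G}

theorem frob_ti (hH : IsFrobeniusComplement H) {g s : G} (hg : g ∉ H) (hs : s ∈ H)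
    (h : g * s * g⁻¹ ∈ H) : s = 1 := by
  have h1 : g * s * g⁻¹ ∈ H ⊓ MulAut.conj g • H :=
    ⟨h, mem_conj_smul_iff.mpr (by simpa [mul_assoc] using hs)⟩
  rw [hH.2.2 g hg, Subgroup.mem_bot] at h1
  simpa using h1

theorem frob_centralizer_le (hH : IsFrobeniusComplement H) {h : G} (hh : h ∈ H) (h1 : h ≠ 1)
    {g : G} (hg : g * h = h * g) : g ∈ H := by
  by_contra hgH
  exact h1 (frob_ti hH hgH hh (by simpa [hg] using hh))

/-- Fixed-point-free action of a complement gives a Frobenius complement. -/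
theorem frob_of_fpf [Finite G] {K : Subgroup G} [hKn : K.Normal] (hc : IsComplement' K H) (hK : K ≠ ⊥)
    (hH : H ≠ ⊥) (hfpf : ∀ h ∈ H, h ≠ 1 → K ⊓ centralizer {h} = ⊥) : IsFrobeniusComplement H := by
  refine ⟨hH, fun e => hK ?_, fun g hg => ?_⟩
  · subst e
    exact Subgroup.isComplement'_top_right.mp hc
  obtain ⟨⟨⟨k, hk⟩, ⟨h₀, hh₀⟩⟩, rfl⟩ :=
    (show Function.Surjective fun z : K × H => (z.1 : G) * z.2 from hc.2) g
  rw [Subgroup.eq_bot_iff_forall]
  intro x hx
  obtain ⟨hxH, hxc⟩ := Subgroup.mem_inf.mp hx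
  rw [mem_conj_smul_iff] at hxc
  have h1 : k⁻¹ * x * k ∈ H := by
    have := H.mul_mem (H.mul_mem hh₀ hxc) (H.inv_mem hh₀)
    simpa [mul_assoc] using this
  have h2 : x⁻¹ * (k⁻¹ * x * k) ∈ K := by
    have := K.mul_mem (hKn.conj_mem _ (K.inv_mem hk) x⁻¹) hk
    simpa [mul_assoc] using this
  have h3 := Subgroup.disjoint_def.mp hc.disjoint h2 (H.mul_mem (H.inv_mem hxH) h1)
  by_contra hx1
  have h4 : k ∈ K ⊓ centralizer {x} := by
    refine ⟨hk, mem_centralizer_singleton_iff.mpr ?_⟩
    have h5 : k⁻¹ * x * k = x := (inv_mul_eq_one.mp h3).symm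
    calc k * x = k * (k⁻¹ * x * k) := by rw [h5]
      _ = x * k := by group
  rw [hfpf x hxH hx1, Subgroup.mem_bot] at h4
  exact hg (by simpa [h4] using hh₀)

theorem fpf_of_frob {K : Subgroup G} (hd : Disjoint K H) (hH : IsFrobeniusComplement H) {h : G}
    (hh : h ∈ H) (h1 : h ≠ 1) : K ⊓ centralizer {h} = ⊥ := by
  rw [Subgroup.eq_bot_iff_forall]
  rintro k ⟨hk, hkc⟩
  exact Subgroup.disjoint_def.mp hd hk
    (frob_centralizer_le hH hh h1 (mem_centralizer_singleton_iff.mp hkc))

variable [Finite G]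

/-- The index of a Frobenius complement is congruent to one modulo its order. -/
theorem index_mod_card (hH : IsFrobeniusComplement H) : Nat.card H ∣ H.index - 1 := by
  classical
  have := Fintype.ofFinite (G ⧸ H)
  let X := {x : G ⧸ H // x ≠ ((1 : G) : G ⧸ H)}
  letI : MulAction H X :=
    { smul := fun h x => ⟨(h : G) • x.1, fun e => x.2 (by
        have e' := congrArg ((h⁻¹ : G) • ·) e
        simp only [inv_smul_smul] at e'
        rw [e', MulAction.Quotient.smul_coe, smul_eq_mul, mul_one, QuotientGroup.eq]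
        simpa using h.2)⟩
      one_smul := fun x => Subtype.ext (one_smul G x.1)
      mul_smul := fun a b x => Subtype.ext (mul_smul (a : G) (b : G) x.1) }
  have hfree : ∀ x : X, MulAction.stabilizer H x = ⊥ := fun x => by
    rw [Subgroup.eq_bot_iff_forall]
    intro h hh
    obtain ⟨⟨y⟩, hx⟩ := x
    have h1 : ((h : G) • (y : G ⧸ H)) = (y : G ⧸ H) := congrArg Subtype.val hh
    rw [MulAction.Quotient.smul_coe, smul_eq_mul, QuotientGroup.eq] at h1
    have hy : y⁻¹ ∉ H := fun hy => hx (QuotientGroup.eq.mpr (by simpa using H.inv_mem hy |> H.inv_mem))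
    refine Subtype.ext (frob_ti hH hy h.2 ?_)
    simpa [mul_assoc] using H.inv_mem h1
  have hcard : Nat.card X = H.index - 1 := by
    rw [Subgroup.index_eq_card, Nat.card_eq_fintype_card, Nat.card_eq_fintype_card]
    exact Fintype.card_subtype_compl _ |>.trans (by simp)
  rw [← hcard, Nat.card_congr (MulAction.selfEquivSigmaOrbitsQuotientStabilizer H X), Nat.card_sigma]
  refine Finset.dvd_sum fun o _ => dvd_of_eq ?_
  rw [← Subgroup.index_eq_card, hfree, Subgroup.index_bot]

theorem coprime_index (hH : IsFrobeniusComplement H) : (Nat.card H).Coprime H.index := by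
  have h1 := index_mod_card hH
  refine Nat.coprime_of_dvd' fun k hk hk1 hk2 => ?_
  have h2 := hk1.trans h1
  have h3 : 1 ≤ H.index := Nat.pos_of_ne_zero Subgroup.index_ne_zero_of_finite
  have h4 := Nat.dvd_sub hk2 h2
  rwa [Nat.sub_sub_self h3] at h4

theorem card_kernel (hH : IsFrobeniusComplement H) : Nat.card (frobeniusKernel H) = H.index := by
  classical
  -- the nontrivial elements of the conjugates
  let f : (G ⧸ H) × {h : H // h ≠ 1} → ((frobeniusKernel H)ᶜ : Set G) := fun z =>
    ⟨z.1.out * (z.2.1 : G) * z.1.out⁻¹, fun hc => by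
      rcases hc with hc | hc
      · exact z.2.2 (Subtype.ext (by simpa using hc))
      · exact hc z.1.out (mem_conj_smul_iff.mpr (by simp [mul_assoc]))⟩
  have hf : Function.Bijective f := by
    constructor
    · rintro ⟨a, h, hh⟩ ⟨b, k, hk⟩ he
      have e : a.out * (h : G) * a.out⁻¹ = b.out * (k : G) * b.out⁻¹ := congrArg Subtype.val he
      have h1 : (b.out⁻¹ * a.out) * (h : G) * (b.out⁻¹ * a.out)⁻¹ = k := by
        calc _ = b.out⁻¹ * (a.out * (h : G) * a.out⁻¹) * b.out := by group
          _ = k := by rw [e]; group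
      have h2 : b.out⁻¹ * a.out ∈ H := by
        by_contra hc
        exact hh (Subtype.ext (frob_ti hH hc h.2 (h1 ▸ k.2)))
      have hab : a = b := by
        rw [← QuotientGroup.out_eq' a, ← QuotientGroup.out_eq' b]
        exact (QuotientGroup.eq.mpr h2).symm
      subst hab
      simp only [Prod.mk.injEq, true_and]
      exact Subtype.ext (Subtype.ext (mul_left_cancel (mul_right_cancel e)))
    · rintro ⟨x, hx⟩
      have hx1 : x ≠ 1 := fun e => hx (Or.inl e)
      obtain ⟨g, hg⟩ : ∃ g : G, x ∈ MulAut.conj g • H := by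
        by_contra hc
        exact hx (Or.inr (not_exists.mp hc))
      rw [mem_conj_smul_iff] at hg
      set a : G ⧸ H := QuotientGroup.mk g with ha
      have h2 : g⁻¹ * a.out ∈ H := QuotientGroup.eq.mp (QuotientGroup.out_eq' a).symm
      have hmem : a.out⁻¹ * x * a.out ∈ H := by
        have := H.mul_mem (H.mul_mem (H.inv_mem h2) hg) h2
        simpa [mul_assoc] using this
      refine ⟨⟨a, ⟨_, hmem⟩, fun e => hx1 ?_⟩, Subtype.ext ?_⟩
      · have e' := congrArg Subtype.val e
        simpa [mul_assoc, inv_mul_eq_one] using e'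
      · show a.out * (a.out⁻¹ * x * a.out) * a.out⁻¹ = x
        group
  have h1 := Nat.card_congr (Equiv.ofBijective f hf)
  rw [Nat.card_prod, ← Subgroup.index_eq_card] at h1
  have h2 : Nat.card {h : H // h ≠ 1} = Nat.card H - 1 := by
    have := Fintype.ofFinite H
    rw [Nat.card_eq_fintype_card, Nat.card_eq_fintype_card]
    exact Fintype.card_subtype_compl _ |>.trans (by simp)
  have h3 : Nat.card (frobeniusKernel H) + Nat.card ((frobeniusKernel H)ᶜ : Set G) = Nat.card G := by
    have := Fintype.ofFinite G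
    rw [← Nat.card_sum]
    exact Nat.card_congr (Equiv.Set.sumCompl _)
  rw [← h1, h2, ← H.card_mul_index] at h3
  have h4 : 1 ≤ Nat.card H := Nat.card_pos
  have h5 : H.index * (Nat.card H - 1) + H.index = Nat.card H * H.index := by
    rw [← Nat.mul_succ, Nat.succ_eq_add_one, Nat.sub_add_cancel h4, mul_comm]
  omega

open CfsgLib.CharTheory in
theorem exists_ext_char [Fintype G] (hH : IsFrobeniusComplement H) (φ : IrrCharacter H) :
    ∃ χ : G → ℂ, IsCharacter G χ ∧ (∀ x : H, χ x = (φ : H → ℂ) x) ∧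
      ∀ x ∈ frobeniusKernel H, χ x = χ 1 := by
  classical
  have := Fintype.ofFinite H
  by_cases hφ : (φ : H → ℂ) = fun _ => 1
  · exact ⟨fun _ => 1, isCharacter_one, fun x => by rw [hφ], fun _ _ => rfl⟩
  set d := (φ : H → ℂ) 1 with hd
  obtain ⟨n, hn0, hn⟩ := irr_degree_pos φ.2
  set f : H → ℂ := (φ : H → ℂ) - d • (fun _ => (1 : ℂ)) with hf
  have hfc : IsClassFunction H f :=
    isClassFunction_sub (isClassFunction_irr φ.2) (isClassFunction_smul _ isClassFunction_one)
  have hTI : ∀ g : G, g ∉ H → ∀ s ∈ (H : Set G), g * s * g⁻¹ ∈ (H : Set G) → s = 1 :=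
    fun g hg s hs h => frob_ti hH hg hs h
  have hfS : ∀ x : H, (x : G) ∉ (H : Set G) → f x = 0 := fun x hx => absurd x.2 hx
  have hf1 : f 1 = 0 := by simp [hf, hd]
  have hone := classInner_irr_self (G := H) isIrrCharacter_one
  have h01 := classInner_irr_ne φ.2 isIrrCharacter_one hφ
  have h10 := classInner_irr_ne isIrrCharacter_one φ.2 (Ne.symm hφ)
  have hconj : (starRingEnd ℂ) d = d := by rw [hd, hn, map_natCast]
  have hff : classInner f f = 1 + d * d := by
    rw [hf, classInner_sub_left, classInner_sub_right, classInner_sub_right, classInner_smul_left,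
      classInner_smul_left, classInner_smul_right, classInner_smul_right, hone, h01, h10,
      classInner_irr_self φ.2, hconj]
    ring
  have hf1' : classInner f (fun _ => 1) = -d := by
    rw [hf, classInner_sub_left, classInner_smul_left, hone, h01]; ring
  set χ : G → ℂ := indFun H f + d • (fun _ => (1 : ℂ)) with hχ
  have hgen : IsGeneralizedCharacter G χ := by
    refine isGenChar_add (isGenChar_indFun H (isGenChar_sub (isGenChar_of_char (isCharacter_of_irr φ.2)) ?_)) ?_
    · rw [hd, hn]; exact isGenChar_intSmul (n : ℤ) (isGenChar_of_char isCharacter_one)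
    · rw [hd, hn]; exact isGenChar_intSmul (n : ℤ) (isGenChar_of_char isCharacter_one)
  have hrec : classInner (indFun H f) (fun _ : G => (1 : ℂ)) = -d := by
    rw [frobenius_reciprocity H f isClassFunction_one]; exact hf1'
  have hnorm : classInner χ χ = 1 := by
    rw [hχ, classInner_add_left, classInner_add_right, classInner_add_right, classInner_smul_left,
      classInner_smul_left, classInner_smul_right, classInner_smul_right,
      classInner_indFun_of_TI H H hTI hfc hfS hfS hf1, hrec,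
      classInner_irr_self isIrrCharacter_one, hff, hconj,
      ← classInner_comm (indFun H f) (fun _ : G => (1 : ℂ)), hrec, map_neg, hconj]
    ring
  have hχ1 : χ 1 = d := by
    simp [hχ, indFun_apply_one, hf1]
  have hirr := irr_of_norm_one hgen hnorm (by
    rw [hχ1, hd, hn]; simpa using hn0)
  refine ⟨χ, isCharacter_of_irr hirr, fun x => ?_, fun x hx => ?_⟩
  · rw [hχ, Pi.add_apply, indFun_apply_of_TI H H hTI hfc hfS hf1 x x.2]
    simp [hf]
  · rcases hx with rfl | hx
    · rfl
    · rw [hχ1, hχ, Pi.add_apply, indFun_eq_zero_of_not_isConj H f fun y hy =>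
        hx y (mem_conj_smul_iff.mpr hy)]
      simp

/-- **Frobenius' theorem.** -/
theorem exists_kernel (hH : IsFrobeniusComplement H) :
    ∃ N : Subgroup G, (N : Set G) = frobeniusKernel H ∧ N.Normal ∧ IsComplement' N H := by
  classical
  have := Fintype.ofFinite G
  choose χ hχc hχH hχK using fun φ : IrrCharacter H => exists_ext_char hH φ
  set N : Subgroup G := ⨅ φ, CfsgLib.CharTheory.charKernel (χ φ) (hχc φ) with hN
  have hNn : N.Normal := Subgroup.normal_iInf_normal fun φ => inferInstance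
  have hle : frobeniusKernel H ⊆ (N : Set G) := fun x hx => Subgroup.mem_iInf.mpr fun φ =>
    (CfsgLib.CharTheory.mem_charKernel _ _).mpr (hχK φ x hx)
  have hdisj : Disjoint N H := by
    rw [Subgroup.disjoint_def]
    intro x hxN hxH
    have hc : IsConj (⟨x, hxH⟩ : H) 1 := CfsgLib.CharTheory.isConj_of_forall_irr fun φ => by
      have h1 := (CfsgLib.CharTheory.mem_charKernel _ _).mp (Subgroup.mem_iInf.mp hxN φ)
      have h2 := hχH φ ⟨x, hxH⟩
      have h3 := hχH φ 1
      rw [← h2, ← h3]
      exact h1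
    exact congrArg Subtype.val (isConj_one_right.mp hc.symm)
  have h1 : Nat.card N ≤ H.index := by
    have h2 : Nat.card (N × H) ≤ Nat.card G := by
      refine Nat.card_le_card_of_injective (fun z => (z.1 : G) * z.2) fun a b h => ?_
      have h3 : (b.1 : G)⁻¹ * a.1 = b.2 * (a.2 : G)⁻¹ := by
        have h' : (a.1 : G) * a.2 = b.1 * b.2 := h
        calc _ = (b.1 : G)⁻¹ * (a.1 * a.2) * (a.2 : G)⁻¹ := by group
          _ = _ := by rw [h']; group
      have h4 := Subgroup.disjoint_def.mp hdisj (N.mul_mem (N.inv_mem b.1.2) a.1.2)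
        (h3 ▸ H.mul_mem b.2.2 (H.inv_mem a.2.2))
      rw [h4] at h3
      exact Prod.ext (Subtype.ext (inv_mul_eq_one.mp h4).symm) (Subtype.ext (mul_inv_eq_one.mp h3.symm).symm)
    rw [Nat.card_prod, ← H.card_mul_index, mul_comm (Nat.card H)] at h2
    exact Nat.le_of_mul_le_mul_right h2 Nat.card_pos
  have heq : (N : Set G) = frobeniusKernel H := by
    refine (Set.eq_of_subset_of_ncard_le hle ?_ (Set.toFinite _)).symm
    rw [← Nat.card_coe_set_eq, ← Nat.card_coe_set_eq, card_kernel hH]
    exact h1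
  refine ⟨N, heq, hNn, Subgroup.isComplement'_of_card_mul_and_disjoint ?_ hdisj⟩
  have h6 : Nat.card N = H.index := by
    rw [← card_kernel hH, ← heq]; rfl
  rw [h6, mul_comm, H.card_mul_index]

/-- The Frobenius kernel is nilpotent. -/
theorem kernel_nilpotent (hH : IsFrobeniusComplement H) {N : Subgroup G} [hNn : N.Normal]
    (hd : Disjoint N H) : Group.IsNilpotent N := by
  by_cases hN : N = ⊥
  · subst hN; infer_instance
  obtain ⟨q, hq, hqd⟩ := Nat.exists_prime_and_dvd (n := Nat.card H) (by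
    rw [Ne, Subgroup.card_eq_one]; exact hH.1)
  have := Fact.mk hq
  obtain ⟨h, hh⟩ := exists_prime_orderOf_dvd_card' (G := H) q hqd
  have hh1 : (h : G) ≠ 1 := fun e => hq.ne_one (by
    rw [← hh, ← Subgroup.orderOf_coe, e, orderOf_one])
  set φ : MulAut N := MulAut.conjNormal (h : G) with hφ
  have hfpf : MonoidHom.FixedPointFree (φ : N →* N) := fun k hk => by
    have h1 : (h : G) * k * (h : G)⁻¹ = k := by
      rw [← MulAut.conjNormal_apply]; exact congrArg Subtype.val hk
    have h2 : (k : G) ∈ N ⊓ centralizer {(h : G)} :=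
      ⟨k.2, mem_centralizer_singleton_iff.mpr (mul_inv_eq_iff_eq_mul.mp h1).symm⟩
    rw [fpf_of_frob hd hH h.2 hh1, Subgroup.mem_bot] at h2
    exact Subtype.ext h2
  refine isNilpotent_of_fpf_prime φ hfpf hq (orderOf_eq_prime ?_ ?_)
  · rw [hφ, ← map_pow, ← Subgroup.coe_pow, ← hh, pow_orderOf_eq_one, Subgroup.coe_one, map_one]
  · intro e
    obtain ⟨k, hk, hk1⟩ := SetLike.exists_of_lt (bot_lt_iff_ne_bot.mpr hN)
    refine hk1 (Subgroup.mem_bot.mpr ?_)
    exact congrArg Subtype.val (hfpf ⟨k, hk⟩ (by show φ _ = _; rw [e]; rfl))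

theorem exists_nilpotent_kernel (hH : IsFrobeniusComplement H) :
    ∃ N : Subgroup G, (N : Set G) = frobeniusKernel H ∧ N.Normal ∧ IsComplement' N H ∧
      Group.IsNilpotent N := by
  obtain ⟨N, h1, h2, h3⟩ := exists_kernel hH
  exact ⟨N, h1, h2, h3, kernel_nilpotent hH h3.disjoint⟩

/-- Every nilpotent normal subgroup lies in the kernel. -/
theorem nilpotent_normal_le_kernel (hH : IsFrobeniusComplement H) {N : Subgroup G} [hNn : N.Normal]
    (hNk : (N : Set G) = frobeniusKernel H) (hc : IsComplement' N H) {M : Subgroup G} [hMn : M.Normal]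
    (hM : Group.IsNilpotent M) : M ≤ N := by
  intro m hm
  by_contra hmN
  have hmK : m ∉ frobeniusKernel H := fun h => hmN (hNk.symm ▸ h : m ∈ (N : Set G))
  have hm1 : m ≠ 1 := fun e => hmN (e ▸ N.one_mem)
  obtain ⟨g, hg⟩ : ∃ g : G, m ∈ MulAut.conj g • H := by
    by_contra hc'
    exact hmK (Or.inr (not_exists.mp hc'))
  rw [mem_conj_smul_iff] at hg
  set m' := g⁻¹ * m * g with hm'
  have hm'M : m' ∈ M := by simpa [hm'] using hMn.conj_mem m hm g⁻¹
  have hm'1 : m' ≠ 1 := fun e => hm1 (by
    calc m = g * m' * g⁻¹ := by rw [hm']; group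
      _ = 1 := by rw [e]; group)
  have hcop : (Nat.card N).Coprime (Nat.card H) := by
    rw [← hc.index_eq_card]; exact ((coprime_index hH).symm)
  have key : ∀ n ∈ N ⊓ M, n = 1 := fun n hn => by
    have h1 : Commute (⟨n, hn.2⟩ : M) ⟨m', hm'M⟩ := commute_of_nilpotent_coprime (by
      rw [Subgroup.orderOf_mk, Subgroup.orderOf_mk]
      exact (hcop.coprime_dvd_left (Subgroup.orderOf_dvd_natCard _ hn.1)).coprime_dvd_right
        (Subgroup.orderOf_dvd_natCard _ hg))
    have h2 := fpf_of_frob hc.disjoint hH hg hm'1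
    have h3 : n ∈ N ⊓ centralizer {m'} :=
      ⟨hn.1, mem_centralizer_singleton_iff.mpr (congrArg Subtype.val h1.eq)⟩
    rwa [h2, Subgroup.mem_bot] at h3
  -- hence `m'` centralises `N`
  have h4 : ∀ n ∈ N, n = 1 := fun n hn => by
    have h5 := key (n * m' * n⁻¹ * m'⁻¹) ⟨by
        simpa [mul_assoc] using N.mul_mem hn (hNn.conj_mem _ (N.inv_mem hn) m'),
      M.mul_mem (hMn.conj_mem _ hm'M n) (M.inv_mem hm'M)⟩
    have h6 : n ∈ N ⊓ centralizer {m'} :=
      ⟨hn, mem_centralizer_singleton_iff.mpr (mul_inv_eq_iff_eq_mul.mp (mul_inv_eq_one.mp h5))⟩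
    rwa [fpf_of_frob hc.disjoint hH hg hm'1, Subgroup.mem_bot] at h6
  exact hH.2.1 (Subgroup.isComplement'_bot_left.mp ((Subgroup.eq_bot_iff_forall N).mpr h4 ▸ hc))

theorem complements_conj_frob (hH : IsFrobeniusComplement H) {H₀ : Subgroup G}
    (hH₀ : IsFrobeniusComplement H₀) : ∃ g : G, MulAut.conj g • H₀ = H := by
  obtain ⟨N, hN1, hN2, hN3, hN4⟩ := exists_nilpotent_kernel hH
  obtain ⟨M, hM1, hM2, hM3, hM4⟩ := exists_nilpotent_kernel hH₀
  have e : M = N :=
    le_antisymm (nilpotent_normal_le_kernel hH hN1 hN3 hM4) (nilpotent_normal_le_kernel hH₀ hM1 hM3 hN4)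
  subst e
  refine CfsgLib.complements_conj ?_ (Or.inl inferInstance) hM3 hN3
  rw [← hN3.index_eq_card, hN3.symm.index_eq_card]
  exact (coprime_index hH).symm

end CfsgLib.Frob
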