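import Mathlib
import Cfsg.Agent.Lib.Elementary
import Cfsg.Agent.Lib.CoprimeGen
import Cfsg.Agent.Lib.CentralizeOmega

/-!
A `p`-group with a unique subgroup of order `p` is cyclic or generalised quaternion.
-/

set_option autoImplicit false

namespace CfsgLib.Frob

open Subgroup
open scoped commutatorElement

universe u

/-- At most one subgroup of order `p`. -/
def UniqSub (p : ℕ) (G : Type u) [Group G] : Prop :=
  ∀ H K : Subgroup G, Nat.card H = p → Nat.card K = p → H = K

variable {G : Type u} [Group G]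

theorem UniqSub.sub {p : ℕ} (h : UniqSub p G) (M : Subgroup G) : UniqSub p M := fun H K hH hK =>
  Subgroup.map_injective M.subtype_injective
    (h _ _ ((Subgroup.card_map_of_injective M.subtype_injective).trans hH)
      ((Subgroup.card_map_of_injective M.subtype_injective).trans hK))

theorem UniqSub.mem {p : ℕ} [Fact p.Prime] (h : UniqSub p G) {y z : G} (hy : y ^ p = 1)
    (hz : orderOf z = p) : y ∈ zpowers z := by
  by_cases hy1 : y = 1
  · rw [hy1]; exact one_mem _
  have h1 := h (zpowers y) (zpowers z) (by rw [Nat.card_zpowers, orderOf_eq_prime hy hy1])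
    (by rw [Nat.card_zpowers, hz])
  exact h1 ▸ mem_zpowers y

theorem UniqSub.cyclic_of_comm [Finite G] {p : ℕ} [Fact p.Prime] (hG : IsPGroup p G) (h : UniqSub p G)
    [IsMulCommutative G] : IsCyclic G := by
  by_contra hc
  obtain ⟨q, hq, a, b, ha, hb, hab⟩ := CfsgLib.exists_two_generators_of_not_cyclic hc
  obtain ⟨k, hk⟩ := IsPGroup.iff_orderOf.mp hG a
  have hqp : q = p := by
    rw [ha] at hk
    exact (Nat.prime_dvd_prime_iff_eq hq Fact.out).mp (hq.dvd_of_dvd_pow (n := k) (by rw [← hk]))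
  subst hqp
  exact hab (h.mem (hb ▸ pow_orderOf_eq_one b) ha)

/-- For odd `p`: cyclic. -/
theorem isCyclic_of_uniq_odd [Finite G] {p : ℕ} [Fact p.Prime] (hp2 : p ≠ 2) (hG : IsPGroup p G)
    (h : UniqSub p G) : IsCyclic G := by
  induction hn : Nat.card G using Nat.strong_induction_on generalizing G with
  | h n ih =>
  subst hn
  by_contra hc
  have hp : p.Prime := Fact.out
  have hcyc : ∀ M : Subgroup G, M ≠ ⊤ → IsCyclic M := fun M hM =>
    ih (Nat.card M) (lt_of_le_of_ne (Subgroup.card_le_card_group M) fun e => hM (Subgroup.eq_top_of_card_eq _ e))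
      (hG.to_subgroup M) (h.sub M) rfl
  have hbt : (⊥ : Subgroup G) ≠ ⊤ := fun e => hc (by
    have hs : Subsingleton (Subgroup G) := subsingleton_of_bot_eq_top e
    have := Subgroup.subsingleton_iff.mp hs
    exact isCyclic_of_subsingleton)
  obtain ⟨M₁, hM₁, -⟩ := (eq_top_or_exists_le_coatom (⊥ : Subgroup G)).resolve_left hbt
  obtain ⟨x, -, hx⟩ := SetLike.exists_of_lt (lt_top_iff_ne_top.mpr hM₁.1)
  have hxt : zpowers x ≠ ⊤ := fun e => hc ((isCyclic_iff_exists_zpowers_eq_top).mpr ⟨x, e⟩)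
  obtain ⟨M₂, hM₂, hxM⟩ := (eq_top_or_exists_le_coatom (zpowers x)).resolve_left hxt
  have hxM₂ : x ∈ M₂ := hxM (mem_zpowers x)
  have hne : M₁ ≠ M₂ := fun e => hx (e ▸ hxM₂)
  have hsup : M₁ ⊔ M₂ = ⊤ := hM₁.2 _ (lt_of_le_of_ne le_sup_left fun e => hx (e ▸ le_sup_right (a := M₁) hxM₂))
  set D := M₁ ⊓ M₂ with hD
  have hDc : ∀ d ∈ D, ∀ g : G, g * d = d * g := by
    intro d hd g
    have key : ∀ M : Subgroup G, IsCyclic M → d ∈ M → M ≤ centralizer {d} := fun M hM hdM m hm => by
      rw [mem_centralizer_singleton_iff]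
      exact congrArg Subtype.val ((IsCyclic.commGroup (α := M)).mul_comm ⟨m, hm⟩ ⟨d, hdM⟩)
    have : g ∈ centralizer {d} := by
      have h1 := sup_le (key _ (hcyc M₁ hM₁.1) hd.1) (key _ (hcyc M₂ hM₂.1) hd.2)
      rw [hsup] at h1
      exact h1 (mem_top g)
    exact mem_centralizer_singleton_iff.mp this
  have hfr : frattini G ≤ D := le_inf (frattini_le_coatom hM₁) (frattini_le_coatom hM₂)
  have hpow : ∀ g : G, g ^ p ∈ D := fun g => hfr (CfsgLib.pow_mem_frattini_pGroup hG g)
  have hmul : ∀ a b : G, (a * b) ^ p = a ^ p * b ^ p := by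
    intro a b
    set c := b * a * (a * b)⁻¹ with hcdef
    have hcD : c ∈ D := hfr (CfsgLib.commutator_le_frattini_pGroup hG (by
      rw [hcdef, show b * a * (a * b)⁻¹ = ⁅b, a⁆ by rw [commutatorElement_def]; group]
      exact commutator_mem_commutator (mem_top _) (mem_top _)))
    have hc1 : b * a = c * (a * b) := by rw [hcdef]; group
    have hcy : c * b = b * c := (hDc c hcD b).symm
    have hcx : c * a = a * c := (hDc c hcD a).symm
    have hcp : c ^ p = 1 := by
      have h1 := CfsgLib.pow_mul_central hc1 hcy p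
      have h2 : b ^ p * a = a * b ^ p := (hDc _ (hpow b) a).symm
      rw [h2] at h1
      exact (mul_eq_right.mp h1.symm)
    rw [CfsgLib.mul_pow_central hc1 hcx hcy p]
    obtain ⟨m, hm⟩ := (Nat.Prime.odd_of_ne_two hp hp2)
    have : p * (p - 1) / 2 = p * m := by
      have : p - 1 = 2 * m := by omega
      rw [this, show p * (2 * m) = 2 * (p * m) by ring, Nat.mul_div_cancel_left _ (by norm_num)]
    rw [this, pow_mul, hcp, one_pow, one_mul]
  let f : G →* G := MonoidHom.mk' (fun g => g ^ p) hmul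
  have hker : Nat.card f.ker ≤ p := by
    by_cases he : ∃ z : G, orderOf z = p
    · obtain ⟨z, hz⟩ := he
      calc Nat.card f.ker ≤ Nat.card (zpowers z) :=
            Nat.le_of_dvd Nat.card_pos (card_dvd_of_le fun y hy => h.mem hy hz)
        _ = p := by rw [Nat.card_zpowers, hz]
    · have : f.ker = ⊥ := (Subgroup.eq_bot_iff_forall _).mpr fun y hy => by
        by_contra hy1
        exact he ⟨y, orderOf_eq_prime hy hy1⟩
      rw [this, Subgroup.card_bot]; exact hp.one_le
  have hrange : Nat.card f.range ≤ Nat.card D :=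
    Nat.le_of_dvd Nat.card_pos (card_dvd_of_le (by rintro _ ⟨g, rfl⟩; exact hpow g))
  have h1 : Nat.card G ≤ p * Nat.card D := by
    rw [← Subgroup.card_mul_index f.ker, Subgroup.index_ker]
    exact Nat.mul_le_mul hker hrange
  obtain ⟨-, hi⟩ := CfsgLib.index_coatom_pGroup hG hM₁
  have hlt : D < M₁ := lt_of_le_of_ne inf_le_left fun e =>
    hne ((hM₁.le_iff.mp (e ▸ inf_le_right)).resolve_left hM₂.1).symm
  have h2 : Nat.card G = Nat.card M₁ * p := by rw [← hi, M₁.card_mul_index]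
  have h3 : Nat.card D < Nat.card M₁ :=
    lt_of_le_of_ne (Nat.le_of_dvd Nat.card_pos (card_dvd_of_le hlt.le)) fun e =>
      hlt.ne (Subgroup.eq_of_le_of_card_ge hlt.le e.ge)
  rw [h2, mul_comm] at h1
  exact absurd (Nat.le_of_mul_le_mul_left h1 hp.pos) (not_le.mpr h3)

theorem exists_maximal_normal_abelian [Finite G] [Group.IsNilpotent G] :
    ∃ A : Subgroup G, A.Normal ∧ IsMulCommutative A ∧ centralizer (A : Set G) = A := by
  classical
  obtain ⟨A, ⟨hAn, hAc⟩, hmax⟩ := (Set.toFinite {A : Subgroup G | A.Normal ∧ IsMulCommutative A}).exists_maximal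
    ⟨⊥, inferInstance, inferInstance⟩
  refine ⟨A, hAn, hAc, le_antisymm ?_ (Subgroup.le_centralizer A)⟩
  by_contra hlt
  set π := QuotientGroup.mk' A
  have : ((centralizer (A : Set G)).map π).Normal :=
    (inferInstance : (centralizer (A : Set G)).Normal).map π (QuotientGroup.mk'_surjective A)
  have hne : (centralizer (A : Set G)).map π ≠ ⊥ := fun e => hlt (by
    rwa [Subgroup.map_eq_bot_iff, QuotientGroup.ker_mk'] at e)
  obtain ⟨z, hz, hz1⟩ := SetLike.exists_of_lt
    (bot_lt_iff_ne_bot.mpr (CfsgLib.inf_center_ne_bot_of_nilpotent hne))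
  obtain ⟨y, hy, hyz⟩ := hz.1
  set B := A ⊔ zpowers y
  have hyB : y ∈ B := mem_sup_right (mem_zpowers y)
  have hBn : B.Normal := by
    refine Subgroup.normalizer_eq_top_iff.mp (top_le_iff.mp fun g _ => ?_)
    have hgy : ∀ g : G, g * y * g⁻¹ * y⁻¹ ∈ A := fun g => by
      rw [← QuotientGroup.eq_one_iff]
      show π (g * y * g⁻¹ * y⁻¹) = 1
      rw [map_mul, map_mul, map_mul, map_inv, map_inv, hyz, mem_center_iff.mp hz.2 (π g)]
      group
    have key : ∀ g : G, B ≤ B.comap (MulAut.conj g).toMonoidHom := fun g => sup_le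
      (fun a ha => mem_sup_left (hAn.conj_mem a ha g)) (zpowers_le.mpr (by
        show g * y * g⁻¹ ∈ B
        have := B.mul_mem (mem_sup_left (T := zpowers y) (hgy g)) hyB
        simpa using this))
    rw [Subgroup.mem_normalizer_iff]
    refine fun b => ⟨fun hb => key g hb, fun hb => ?_⟩
    simpa [mul_assoc] using key g⁻¹ hb
  have hBc : IsMulCommutative B := by
    have hA' : B ≤ centralizer (A : Set G) :=
      sup_le (Subgroup.le_centralizer A) (zpowers_le.mpr hy)
    have hy' : B ≤ centralizer {y} := sup_le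
      (fun a ha => mem_centralizer_singleton_iff.mpr (mem_centralizer_iff.mp hy a ha))
      (zpowers_le.mpr (mem_centralizer_singleton_iff.mpr rfl))
    refine ⟨⟨fun a b => Subtype.ext ?_⟩⟩
    have h1 : B ≤ centralizer {(b : G)} := sup_le
      (fun a' ha' => mem_centralizer_singleton_iff.mpr (mem_centralizer_iff.mp (hA' b.2) a' ha'))
      (zpowers_le.mpr (mem_centralizer_singleton_iff.mpr
        (mem_centralizer_singleton_iff.mp (hy' b.2)).symm))
    exact mem_centralizer_singleton_iff.mp (h1 a.2)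
  have hyA : y ∉ A := fun h => hz1 (by rw [← hyz, Subgroup.mem_bot]; exact (QuotientGroup.eq_one_iff y).mpr h)
  exact hyA (hmax ⟨hBn, hBc⟩ le_sup_left hyB)

theorem zpow_eq_one_iff_dvd_card {A : G} (i : ℤ) : A ^ i = 1 ↔ ((orderOf A : ℕ) : ℤ) ∣ i :=
  orderOf_dvd_iff_zpow_eq_one.symm

theorem quaternion_iso [Finite G] {M : ℕ} (hM : 0 < M) (a x : G) (ha : orderOf a = 2 * M) (hx : x ^ 2 = a ^ M)
    (hconj : x * a * x⁻¹ = a⁻¹) (hxA : x ∉ zpowers a)
    (hgen : ∀ g : G, g ∈ zpowers a ∨ x⁻¹ * g ∈ zpowers a) : Nonempty (G ≃* QuaternionGroup M) := by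
  have : NeZero (2 * M) := ⟨by omega⟩
  set e : ZMod (2 * M) → G := fun i => a ^ i.val with he
  have hadd : ∀ i j, e (i + j) = e i * e j := fun i j => by
    simp only [he]
    rw [← pow_add, ZMod.val_add, ← pow_mod_orderOf a (i.val + j.val), ha]
  have he0 : e 0 = 1 := by simp [he]
  have hneg : ∀ i, e (-i) = (e i)⁻¹ := fun i => by
    apply eq_inv_of_mul_eq_one_left
    rw [← hadd, neg_add_cancel, he0]
  have hsub : ∀ i j, e (j - i) = (e i)⁻¹ * e j := fun i j => by
    rw [sub_eq_add_neg, add_comm, hadd, hneg]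
  have heM : e (M : ZMod (2 * M)) = x ^ 2 := by
    simp only [he]
    rw [ZMod.val_natCast, hx, ← pow_mod_orderOf a M, ha]
  have hxe : ∀ i, x * e i = (e i)⁻¹ * x := fun i => by
    have h1 : x * e i * x⁻¹ = (e i)⁻¹ := by
      simp only [he]
      rw [← MulAut.conj_apply, map_pow, MulAut.conj_apply, hconj, inv_pow]
    rw [← h1]; group
  have hex : ∀ i, e i * x = x * (e i)⁻¹ := fun i => by
    have := hxe (-i)
    rw [hneg, inv_inv] at this
    exact this.symm
  let f : QuaternionGroup M → G := fun q => match q with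
    | .a i => e i
    | .xa i => x * e i
  have hmul : ∀ u v, f (u * v) = f u * f v := by
    rintro (i | i) (j | j)
    · rw [QuaternionGroup.a_mul_a]; exact hadd i j
    · rw [QuaternionGroup.a_mul_xa]
      show x * e (j - i) = e i * (x * e j)
      rw [← mul_assoc, hex, mul_assoc, hsub]
    · rw [QuaternionGroup.xa_mul_a]
      show x * e (i + j) = x * e i * e j
      rw [mul_assoc, hadd]
    · rw [QuaternionGroup.xa_mul_xa]
      show e ((M : ZMod (2 * M)) + j - i) = x * e i * (x * e j)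
      rw [show x * e i * (x * e j) = x * (e i * x) * e j by group, hex, add_sub_assoc, hadd, heM, hsub, pow_two]
      group
  have hsurj : Function.Surjective (MonoidHom.mk' f hmul) := by
    have hcov : ∀ y ∈ zpowers a, ∃ i, e i = y := fun y hy => by
      obtain ⟨k, rfl⟩ := (Submonoid.mem_powers_iff _ _).mp (mem_powers_iff_mem_zpowers.mpr hy)
      exact ⟨(k : ZMod (2 * M)), by simp only [he]; rw [ZMod.val_natCast, ← pow_mod_orderOf a k, ha]⟩
    intro g
    rcases hgen g with hg | hg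
    · obtain ⟨i, hi⟩ := hcov g hg; exact ⟨.a i, hi⟩
    · obtain ⟨i, hi⟩ := hcov _ hg
      exact ⟨.xa i, by show x * e i = g; rw [hi]; group⟩
  have hinj : Function.Injective (MonoidHom.mk' f hmul) := by
    rw [injective_iff_map_eq_one]
    rintro (i | i) hi
    · have h1 : orderOf a ∣ i.val := orderOf_dvd_of_pow_eq_one hi
      rw [ha] at h1
      rw [QuaternionGroup.one_def, ← ZMod.val_eq_zero i |>.mp (Nat.eq_zero_of_dvd_of_lt h1 i.val_lt)]
    · exfalso
      refine hxA ?_
      rw [show x = (e i)⁻¹ from eq_inv_of_mul_eq_one_left hi]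
      exact inv_mem (pow_mem (mem_zpowers a) _)
  exact ⟨(MulEquiv.ofBijective _ ⟨hinj, hsurj⟩).symm⟩

/-- For `p = 2`: cyclic or generalised quaternion. -/
theorem cyclic_or_quaternion_two [Finite G] (hG : IsPGroup 2 G) (h : UniqSub 2 G) :
    IsCyclic G ∨ ∃ n : ℕ, Nonempty (G ≃* QuaternionGroup (2 ^ n)) := by
  have := Fact.mk Nat.prime_two
  have := hG.isNilpotent
  by_cases hcG : IsCyclic G
  · exact Or.inl hcG
  right
  obtain ⟨A, hAn, hAc, hCA⟩ := exists_maximal_normal_abelian (G := G)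
  have hAcyc : IsCyclic A := (h.sub A).cyclic_of_comm (hG.to_subgroup A)
  obtain ⟨a, haA⟩ := (Subgroup.isCyclic_iff_exists_zpowers_eq_top _).mp hAcyc
  have haa : a ∈ A := haA ▸ mem_zpowers a
  obtain ⟨n, hn⟩ := IsPGroup.iff_orderOf.mp hG a
  have hcent : ∀ g : G, g * a = a * g → g ∈ A := fun g hg => by
    rw [← hCA, mem_centralizer_iff]
    intro b hb
    rw [← haA] at hb
    obtain ⟨i, rfl⟩ := hb
    exact ((Commute.zpow_left (show Commute a g from hg.symm) i)).eq
  have hAtop : A ≠ ⊤ := fun e => hcG (by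
    rw [e] at hAcyc
    exact isCyclic_of_surjective (Subgroup.topEquiv (G := G)) Subgroup.topEquiv.surjective)
  have hz : ∀ g : G, ∃ k : ℤ, g * a * g⁻¹ = a ^ k := fun g => by
    obtain ⟨k, hk⟩ := (haA.symm ▸ hAn.conj_mem a haa g : g * a * g⁻¹ ∈ zpowers a)
    exact ⟨k, hk.symm⟩
  have hzpow : ∀ (g : G) (k : ℤ), g * a * g⁻¹ = a ^ k → ∀ i : ℤ, g * a ^ i * g⁻¹ = a ^ (k * i) := fun g k hk i => by
    rw [← MulAut.conj_apply, map_zpow, MulAut.conj_apply, hk, zpow_mul]
  have hmemA : ∀ y ∈ A, ∃ m : ℤ, a ^ m = y := fun y hy => by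
    obtain ⟨m, hm⟩ := (haA.symm ▸ hy : y ∈ zpowers a)
    exact ⟨m, hm⟩
  -- `|A| ≥ 4`
  have hn2 : 2 ≤ n := by
    by_contra hlt
    obtain ⟨g, -, hg⟩ := SetLike.exists_of_lt (lt_top_iff_ne_top.mpr hAtop)
    refine hg (hcent g ?_)
    obtain ⟨k, hk⟩ := hz g
    have h2 : a ^ (2 : ℤ) = 1 := by
      rw [← orderOf_dvd_iff_zpow_eq_one, hn]
      exact_mod_cast pow_dvd_pow 2 (show n ≤ 1 by omega)
    rcases Int.even_or_odd k with ⟨j, rfl⟩ | ⟨j, rfl⟩
    · rw [← two_mul, zpow_mul, h2, one_zpow] at hk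
      have : a = 1 := by
        calc a = g⁻¹ * (g * a * g⁻¹) * g := by group
          _ = 1 := by rw [hk]; group
      rw [this, mul_one, one_mul]
    · rw [zpow_add_one, zpow_mul, h2, one_zpow, one_mul] at hk
      exact mul_inv_eq_iff_eq_mul.mp hk
  obtain ⟨N', rfl⟩ : ∃ N', n = N' + 2 := ⟨n - 2, by omega⟩
  set P : ℤ := 2 ^ N' with hP
  have hPpos : 0 < P := by positivity
  have hT : ∀ i : ℤ, a ^ i = 1 ↔ 4 * P ∣ i := fun i => by
    rw [← orderOf_dvd_iff_zpow_eq_one, hn]
    push_cast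
    rw [pow_add, mul_comm]
    norm_num
    rw [hP]
  set z := a ^ (2 * P) with hzdef
  have hzo : orderOf z = 2 := by
    refine orderOf_eq_prime ?_ fun e => ?_
    · rw [hzdef, ← zpow_natCast, ← zpow_mul, hT]
      exact ⟨1, by push_cast; ring⟩
    · rw [hzdef, hT] at e
      have := Int.le_of_dvd (by positivity) e
      omega
  have hzA : z ∈ A := hzdef ▸ zpow_mem haa _
  have hinvol : ∀ y : G, y ^ 2 = 1 → y ∈ A := fun y hy => by
    obtain ⟨i, rfl⟩ := h.mem hy hzo
    exact zpow_mem hzA i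
  -- elements whose square lies in `A` invert it
  have key : ∀ x : G, x ∉ A → x ^ 2 ∈ A → x * a * x⁻¹ = a⁻¹ ∧ x ^ 2 = z := by
    intro x hx hx2
    obtain ⟨k, hk⟩ := hz x
    obtain ⟨m, hm⟩ := hmemA _ hx2
    have hm1 : x ^ 2 * a * (x ^ 2)⁻¹ = a := by rw [← hm]; group
    have hkk : 4 * P ∣ k * k - 1 := by
      rw [← hT, zpow_sub, zpow_one, ← hzpow x k hk k, ← hk]
      calc x * (x * a * x⁻¹) * x⁻¹ * a⁻¹ = x ^ 2 * a * (x ^ 2)⁻¹ * a⁻¹ := by rw [pow_two]; group
        _ = 1 := by rw [hm1, mul_inv_cancel]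
    have hkm : 4 * P ∣ k * m - m := by
      rw [← hT, zpow_sub, ← hzpow x k hk m, hm]
      group
    have hsq : ∀ i : ℤ, 4 * P ∣ m + (k * i + i) → False := fun i hi => by
      refine hx ?_
      have h1 : (x * a ^ i) ^ 2 = 1 := by
        calc (x * a ^ i) ^ 2 = (x * a ^ i * x⁻¹) * x ^ 2 * a ^ i := by rw [pow_two, pow_two]; group
          _ = a ^ (k * i) * a ^ m * a ^ i := by rw [hzpow x k hk i, ← hm]
          _ = a ^ (m + (k * i + i)) := by rw [← zpow_add, ← zpow_add]; ring_nf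
          _ = 1 := (hT _).mpr hi
      simpa using A.mul_mem (hinvol _ h1) (A.inv_mem (zpow_mem haa i))
    have hnc : ¬ 4 * P ∣ k - 1 := fun hd => hx (hcent x (by
      have h1 : a ^ k = a := by
        rw [show k = (k - 1) + 1 by ring, zpow_add_one, (hT _).mpr hd, one_mul]
      rw [h1] at hk
      exact mul_inv_eq_iff_eq_mul.mp hk))
    by_cases hneg : 4 * P ∣ k + 1
    · have h1 : a ^ k = a⁻¹ := by
        rw [show k = (k + 1) + (-1) by ring, zpow_add, (hT _).mpr hneg, one_mul, zpow_neg_one]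
      refine ⟨hk.trans h1, ?_⟩
      have h2 : 4 * P ∣ 2 * m := by
        have := dvd_sub (hneg.mul_right m) hkm
        ring_nf at this ⊢
        exact this
      obtain ⟨c, hc⟩ := h2
      have hmc : m = 2 * P * c := by linarith
      rcases Int.even_or_odd c with ⟨v, rfl⟩ | ⟨v, rfl⟩
      · exact (hsq 0 ⟨v, by rw [hmc]; ring⟩).elim
      · rw [← hm, hzdef, hmc, show 2 * P * (2 * v + 1) = 4 * P * v + 2 * P by ring, zpow_add,
          (hT _).mpr (dvd_mul_right _ _), one_mul]
    exfalso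
    obtain ⟨j, rfl⟩ : ∃ j, k = 2 * j + 1 := by
      rcases Int.even_or_odd k with ⟨j, rfl⟩ | hodd
      · exfalso
        have h4 : (2 : ℤ) ∣ (j + j) * (j + j) - 1 := (Dvd.intro (2 * P) (by ring)).trans hkk
        have h5 : (2 : ℤ) ∣ (j + j) * (j + j) := Dvd.intro (2 * (j * j)) (by ring)
        have h6 := dvd_sub h5 h4
        rw [sub_sub_cancel] at h6
        norm_num at h6
      · exact hodd
    have hNpos : 0 < N' := by
      rcases Nat.eq_zero_or_pos N' with rfl | hpos
      · exfalso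
        simp only [pow_zero] at hP
        rw [hP] at hneg hnc
        rcases Int.even_or_odd j with ⟨i, rfl⟩ | ⟨i, rfl⟩
        · exact hnc ⟨i, by ring⟩
        · exact hneg ⟨i + 1, by ring⟩
      · exact hpos
    obtain ⟨M', rfl⟩ : ∃ M', N' = M' + 1 := ⟨N' - 1, by omega⟩
    have hPeven : P = 2 * 2 ^ M' := by rw [hP, pow_succ']
    have hjj : P ∣ j * (j + 1) := by
      obtain ⟨c, hc⟩ := hkk
      exact ⟨c, by linarith⟩
    rcases Int.even_or_odd j with hj | hj
    · -- `j` even
      have hco : IsCoprime P (j + 1) := by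
        rw [hP]
        refine IsCoprime.pow_left ?_
        obtain ⟨i, rfl⟩ := hj
        exact ⟨-i, 1, by ring⟩
      obtain ⟨c, hc⟩ := hco.dvd_of_dvd_mul_right hjj
      rcases Int.even_or_odd m with ⟨w, hw⟩ | ⟨w, hw⟩
      · have hco2 : IsCoprime (2 * P) (j + 1) := by
          refine IsCoprime.mul_left ?_ hco
          obtain ⟨i, rfl⟩ := hj
          exact ⟨-i, 1, by ring⟩
        obtain ⟨s, t, hst⟩ := hco2
        refine hsq (-w * t) ⟨w * s, ?_⟩
        rw [hw]
        linear_combination (-2 * w) * hst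
      · refine hx (hcent x ?_)
        obtain ⟨s, t, hst⟩ : IsCoprime m (4 * P) := by
          rw [hw, hP, show (4 * 2 ^ (M' + 1) : ℤ) = 2 ^ (M' + 3) by ring]
          exact IsCoprime.pow_right ⟨1, -w, by ring⟩
        have h1 : a = (x ^ 2) ^ s := by
          rw [← hm, ← zpow_mul]
          calc a = a ^ (s * m + t * (4 * P)) := by rw [hst, zpow_one]
            _ = a ^ (m * s) := by
              rw [zpow_add, (hT _).mpr (dvd_mul_left _ _), mul_one, mul_comm]
        rw [h1]
        exact (((Commute.refl x).pow_right 2).zpow_right s).eq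
    · -- `j` odd
      have hco : IsCoprime P j := by
        rw [hP]
        refine IsCoprime.pow_left ?_
        obtain ⟨i, rfl⟩ := hj
        exact ⟨-i, 1, by ring⟩
      obtain ⟨c, hc⟩ := hco.dvd_of_dvd_mul_left hjj
      rcases Int.even_or_odd c with ⟨d, rfl⟩ | ⟨d, rfl⟩
      · exact hneg ⟨d, by linear_combination 2 * hc⟩
      have hco2 : IsCoprime (2 * P) j := by
        refine IsCoprime.mul_left ?_ hco
        obtain ⟨i, rfl⟩ := hj
        exact ⟨-i, 1, by ring⟩
      obtain ⟨c', hc'⟩ := hkm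
      obtain ⟨u, hu⟩ : 2 * P ∣ m := hco2.dvd_of_dvd_mul_left ⟨c', by linarith⟩
      refine hsq (-u) ⟨-(d * u), ?_⟩
      linear_combination hu - 2 * u * hc
  -- every element outside `A` squares into `A`
  have hall : ∀ y : G, y ∉ A → y ^ 2 ∈ A := by
    intro y hy
    classical
    have hex : ∃ i : ℕ, y ^ (2 ^ i) ∈ A := by
      obtain ⟨i, hi⟩ := hG y
      exact ⟨i, by rw [hi]; exact one_mem _⟩
    set j := Nat.find hex with hj
    by_contra hy2
    have hj2 : 2 ≤ j := by
      by_contra hlt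
      rcases (show j = 0 ∨ j = 1 by omega) with e | e
      · have := Nat.find_spec hex
        rw [← hj, e, pow_zero, pow_one] at this
        exact hy this
      · have := Nat.find_spec hex
        rw [← hj, e, pow_one] at this
        exact hy2 this
    obtain ⟨i, hi⟩ : ∃ i, j = i + 2 := ⟨j - 2, by omega⟩
    set w := y ^ (2 ^ i) with hw
    have hx1 : w ^ 2 ∉ A := by
      rw [hw, ← pow_mul, ← pow_succ]
      exact Nat.find_min hex (by omega)
    have hx2 : (w ^ 2) ^ 2 ∈ A := by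
      rw [hw, ← pow_mul, ← pow_mul, show 2 ^ i * (2 * 2) = 2 ^ j by rw [hi]; ring]
      exact Nat.find_spec hex
    obtain ⟨h1, -⟩ := key _ hx1 hx2
    obtain ⟨k, hk⟩ := hz w
    have h2 : a ^ (k * k + 1) = 1 := by
      rw [zpow_add_one, ← hzpow w k hk k, ← hk]
      calc w * (w * a * w⁻¹) * w⁻¹ * a = (w ^ 2 * a * (w ^ 2)⁻¹) * a := by rw [pow_two]; group
        _ = 1 := by rw [h1, inv_mul_cancel]
    have h3 : (4 : ℤ) ∣ k * k + 1 := (dvd_mul_right 4 P).trans ((hT _).mp h2)
    rcases Int.even_or_odd k with ⟨t, rfl⟩ | ⟨t, rfl⟩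
    · obtain ⟨c, hc⟩ := h3
      have : (1 : ℤ) = 4 * (c - t * t) := by linarith
      omega
    · obtain ⟨c, hc⟩ := h3
      have : (2 : ℤ) = 4 * (c - t * t - t) := by linarith
      omega
  obtain ⟨x, -, hxA⟩ := SetLike.exists_of_lt (lt_top_iff_ne_top.mpr hAtop)
  obtain ⟨hxi, hxz⟩ := key x hxA (hall x hxA)
  refine ⟨N' + 1, quaternion_iso (pow_pos two_pos _) a x (by rw [hn, pow_succ']) ?_ hxi (haA ▸ hxA) fun g => ?_⟩
  · rw [hxz, hzdef, ← zpow_natCast, hP]
    push_cast
    ring_nf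
  rw [haA]
  by_cases hg : g ∈ A
  · exact Or.inl hg
  right
  refine hcent _ ?_
  obtain ⟨hgi, -⟩ := key g hg (hall g hg)
  have h1 : g * a * g⁻¹ = x * a * x⁻¹ := hgi.trans hxi.symm
  calc x⁻¹ * g * a = x⁻¹ * (g * a * g⁻¹) * g := by group
    _ = x⁻¹ * (x * a * x⁻¹) * g := by rw [h1]
    _ = a * (x⁻¹ * g) := by group

end CfsgLib.Frob
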