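import Mathlib
import Cfsg.Agent.Lib.Frobenius.Kernel
import Cfsg.Agent.Lib.Frobenius.UniqueSubgroup
import Cfsg.Agent.Lib.CoprimeAbelian

/-!
Structure of groups acting without fixed points (Frobenius complements).
-/

set_option autoImplicit false

namespace CfsgLib.Frob

open Cfsg Subgroup
open scoped Pointwise commutatorElement

universe u
variable {G : Type u} [Group G] [Finite G]

theorem fpf_pow_eq_one {V : Subgroup G} [IsMulCommutative V] {y : G} (hy : y ∈ normalizer (V : Set G))
    {p : ℕ} (hyp : y ^ p = 1) (hfix : V ⊓ centralizer {y} = ⊥) {z : G} (hz : z ∈ V) :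
    (z * y) ^ p = 1 := by
  have h1 := mul_pow_eq_prod V hy ⟨z, hz⟩ p
  simp only [hyp, mul_one] at h1
  set w := (z * y) ^ p with hw
  have hwV : w ∈ V := by rw [h1]; exact SetLike.coe_mem _
  have hc : Commute w (z * y) := (Commute.refl (z * y)).pow_left p
  have hcz : w * z = z * w :=
    congrArg Subtype.val ((IsMulCommutative.is_comm (M := V)).comm ⟨w, hwV⟩ ⟨z, hz⟩)
  have h2 : w ∈ V ⊓ centralizer {y} := by
    refine ⟨hwV, mem_centralizer_singleton_iff.mpr (mul_left_cancel (a := z) ?_)⟩
    calc z * (w * y) = (z * w) * y := by group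
      _ = w * (z * y) := by rw [← hcz]; group
      _ = (z * y) * w := hc.eq
      _ = z * (y * w) := by group
  rwa [hfix, Subgroup.mem_bot] at h2

theorem not_dvd_card_of_fpf {V : Subgroup G} {y : G} (hy : y ∈ normalizer (V : Set G)) {p : ℕ} [Fact p.Prime]
    (hyo : orderOf y = p) (hfix : V ⊓ centralizer {y} = ⊥) : ¬ p ∣ Nat.card V := by
  letI : MulAction (zpowers y) V :=
    MulAction.compHom V (Subgroup.inclusion (zpowers_le.mpr hy : zpowers y ≤ normalizer (V : Set G)))
  have hP : IsPGroup p (zpowers y) := IsPGroup.of_card (n := 1) (by rw [Nat.card_zpowers, hyo, pow_one])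
  have h1 := hP.card_modEq_card_fixedPoints V
  have h2 : MulAction.fixedPoints (zpowers y) V = {1} := by
    ext v
    refine ⟨fun hv => ?_, fun hv => ?_⟩
    · have h3 := congrArg Subtype.val (hv ⟨y, mem_zpowers y⟩)
      change y * (v : G) * y⁻¹ = v at h3
      have h4 : (v : G) ∈ V ⊓ centralizer {y} :=
        ⟨v.2, mem_centralizer_singleton_iff.mpr (mul_inv_eq_iff_eq_mul.mp h3).symm⟩
      rw [hfix, Subgroup.mem_bot] at h4
      exact Subtype.ext h4
    · rw [Set.mem_singleton_iff] at hv
      subst hv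
      intro g
      apply Subtype.ext
      show (g : G) * ((1 : V) : G) * (g : G)⁻¹ = ((1 : V) : G)
      simp
  rw [h2] at h1
  rw [Nat.card_coe_set_eq, Set.ncard_singleton] at h1
  intro hd
  rw [← Nat.modEq_zero_iff_dvd] at hd
  have := (h1.symm.trans hd : 1 ≡ 0 [MOD p])
  rw [Nat.modEq_zero_iff_dvd, Nat.dvd_one] at this
  exact (Fact.out : p.Prime).ne_one this

theorem no_elementary_fpf {V : Subgroup G} [IsMulCommutative V] (hV : V ≠ ⊥) {p : ℕ} (hp : p.Prime)
    {A : Subgroup G} (hAV : A ≤ normalizer (V : Set G))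
    (hfpf : ∀ x ∈ A, x ≠ 1 → V ⊓ centralizer {x} = ⊥) {a b : G} (ha : a ∈ A) (hb : b ∈ A)
    (hao : orderOf a = p) (hbo : orderOf b = p) (hab : a * b = b * a) : b ∈ zpowers a := by
  by_contra hba
  have := Fact.mk hp
  have ha1 : a ≠ 1 := fun e => hp.ne_one (by rw [← hao, e, orderOf_one])
  refine hV (eq_one_of_norm hp (S := zpowers a) (x := b) ((zpowers_le.mpr ha).trans hAV) (hAV hb) ?_ ?_ ?_ ?_)
  · rw [mem_normalizer_iff]
    intro h
    constructor
    · rintro ⟨i, rfl⟩
      exact ⟨i, by rw [← ((show Commute b a from hab.symm).zpow_right i).eq.symm.trans rfl]; group⟩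
    · rintro ⟨i, hi⟩
      exact ⟨i, by
        have e : h = b⁻¹ * a ^ i * b := by rw [show a ^ i = b * h * b⁻¹ from hi]; group
        rw [e, mul_assoc, ((show Commute a b from hab).zpow_left i).eq]; group⟩
  · rintro k hk z hz
    obtain ⟨i, rfl⟩ := hk
    have hkb : (a ^ i * b) ^ p = 1 := by
      rw [((show Commute a b from hab).zpow_left i).mul_pow, ← hbo, pow_orderOf_eq_one, mul_one,
        hbo, ← hao, ← zpow_natCast, ← zpow_mul, mul_comm, zpow_mul, zpow_natCast, pow_orderOf_eq_one,
        one_zpow]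
    refine fpf_pow_eq_one (hAV (A.mul_mem (A.zpow_mem ha i) hb)) hkb (hfpf _ (A.mul_mem (A.zpow_mem ha i) hb) fun e => hba ?_) hz
    exact ⟨-i, by show a ^ (-i) = b; rw [zpow_neg, inv_eq_of_mul_eq_one_right e]⟩
  · rw [Nat.card_zpowers, hao]
    exact hp.coprime_iff_not_dvd.mpr (not_dvd_card_of_fpf (hAV ha) hao (hfpf a ha ha1))
  · rw [eq_bot_iff, ← hfpf a ha ha1]
    exact inf_le_inf le_rfl (centralizer_le (by simp [mem_zpowers]))

theorem uniqSub_of_fpf {V : Subgroup G} [IsMulCommutative V] (hV : V ≠ ⊥) {p : ℕ} [Fact p.Prime]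
    {A : Subgroup G} (hAV : A ≤ normalizer (V : Set G))
    (hfpf : ∀ x ∈ A, x ≠ 1 → V ⊓ centralizer {x} = ⊥) (hA : IsPGroup p A) : UniqSub p A := by
  intro H K hH hK
  have hp : p.Prime := Fact.out
  have : Nontrivial A := by
    by_contra hs
    rw [not_nontrivial_iff_subsingleton] at hs
    have h1 : Nat.card H = 1 := Nat.card_eq_one_iff_unique.mpr ⟨inferInstance, inferInstance⟩
    exact hp.ne_one (hH.symm.trans h1)
  have := hA.center_nontrivial
  obtain ⟨⟨z, hz⟩, hzo⟩ := exists_prime_orderOf_dvd_card' (G := center A) p (by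
    obtain ⟨n, hn⟩ := (hA.to_subgroup (center A)).exists_card_eq
    have : 1 < Nat.card (center A) := Finite.one_lt_card
    rw [hn] at this ⊢
    exact dvd_pow_self p fun e => by simp [e] at this)
  rw [Subgroup.orderOf_mk] at hzo
  have key : ∀ L : Subgroup A, Nat.card L = p → L = zpowers z := by
    intro L hL
    obtain ⟨⟨w, hwL⟩, hwo⟩ := exists_prime_orderOf_dvd_card' (G := L) p (hL ▸ dvd_rfl)
    rw [Subgroup.orderOf_mk] at hwo
    have h1 := no_elementary_fpf hV hp hAV hfpf (a := (z : G)) (b := (w : G)) z.2 w.2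
      (by rw [Subgroup.orderOf_coe, hzo]) (by rw [Subgroup.orderOf_coe, hwo])
      (congrArg Subtype.val (mem_center_iff.mp hz w).symm)
    obtain ⟨i, hi⟩ := h1
    have h2 : w ∈ zpowers z := ⟨i, Subtype.ext (by simpa using hi)⟩
    have h3 : zpowers w = zpowers z :=
      eq_of_le_of_card_ge (zpowers_le.mpr h2) (by rw [Nat.card_zpowers, Nat.card_zpowers, hzo, hwo])
    rw [← h3]
    exact (eq_of_le_of_card_ge (zpowers_le.mpr hwL) (by rw [Nat.card_zpowers, hwo, hL])).symm
  rw [key H hH, key K hK]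

theorem isCyclic_of_fpf_comm {V : Subgroup G} [IsMulCommutative V] (hV : V ≠ ⊥) {A : Subgroup G}
    (hAV : A ≤ normalizer (V : Set G)) (hfpf : ∀ x ∈ A, x ≠ 1 → V ⊓ centralizer {x} = ⊥)
    [IsMulCommutative A] : IsCyclic A := by
  by_contra hc
  obtain ⟨q, hq, a, b, ha, hb, hab⟩ := CfsgLib.exists_two_generators_of_not_cyclic hc
  have h1 := no_elementary_fpf hV hq hAV hfpf a.2 b.2 (by rw [Subgroup.orderOf_coe, ha])
    (by rw [Subgroup.orderOf_coe, hb]) (congrArg Subtype.val ((IsMulCommutative.is_comm (M := A)).comm a b))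
  obtain ⟨i, hi⟩ := h1
  exact hab ⟨i, Subtype.ext (by simpa using hi)⟩

theorem isCyclic_of_fpf_pq {V : Subgroup G} [IsMulCommutative V] (hV : V ≠ ⊥) {A : Subgroup G}
    (hAV : A ≤ normalizer (V : Set G)) (hfpf : ∀ x ∈ A, x ≠ 1 → V ⊓ centralizer {x} = ⊥)
    {p q : ℕ} (hp : p.Prime) (hq : q.Prime) (hA : Nat.card A = p * q) : IsCyclic A := by
  rcases eq_or_ne p q with rfl | hne
  · have := Fact.mk hp
    have : IsMulCommutative A := ⟨⟨(fun a b => ((IsPGroup.isMulCommutative_of_card_eq_prime_sq (p := p) (G := A) (by rw [hA, sq])).is_comm.comm a b))⟩⟩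
    exact isCyclic_of_fpf_comm hV hAV hfpf
  wlog hlt : p < q generalizing p q
  · exact this hq hp (by rw [hA, mul_comm]) hne.symm (lt_of_le_of_ne (not_lt.mp hlt) hne.symm)
  by_contra hc
  have := Fact.mk hp
  have := Fact.mk hq
  obtain ⟨S⟩ : Nonempty (Sylow q A) := inferInstance
  have hS : Nat.card (S : Subgroup A) = q := by
    rw [Sylow.card_eq_multiplicity, hA, Nat.factorization_mul hp.ne_zero hq.ne_zero,
      Finsupp.add_apply, hp.factorization, hq.factorization, Finsupp.single_eq_of_ne hne.symm,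
      Finsupp.single_eq_same, zero_add, pow_one]
  have hSn : (S : Subgroup A).Normal := by
    have h1 : Nat.card (Sylow q A) = 1 := by
      have hd : Nat.card (Sylow q A) ∣ p := by
        have h2 := S.card_dvd_index
        have h3 := (S : Subgroup A).card_mul_index
        rw [hS, hA, mul_comm p q] at h3
        rwa [Nat.eq_of_mul_eq_mul_left hq.pos h3] at h2
      rcases (Nat.dvd_prime hp).mp hd with h | h
      · exact h
      · exfalso
        have h2 := card_sylow_modEq_one q A
        rw [h, Nat.ModEq, Nat.mod_eq_of_lt hlt, Nat.mod_eq_of_lt hq.one_lt] at h2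
        exact hp.ne_one h2
    have := (Nat.card_eq_one_iff_unique.mp h1).1
    exact Sylow.normal_of_subsingleton S
  obtain ⟨x, hxo⟩ := exists_prime_orderOf_dvd_card' (G := A) p (hA ▸ dvd_mul_right p q)
  have hxS : x ∉ (S : Subgroup A) := fun h => hne ((Nat.prime_dvd_prime_iff_eq hp hq).mp (by
    rw [← hxo, ← hS]; exact orderOf_dvd_natCard _ h))
  set Sg := (S : Subgroup A).map A.subtype with hSg
  have hSA : Sg ≤ A := map_subtype_le _
  have hkx : ∀ k : A, k ∈ (S : Subgroup A) → orderOf (k * x) = p := fun k hk => by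
    have hne1 : k * x ∉ (S : Subgroup A) := fun h => hxS (by
      simpa using (S : Subgroup A).mul_mem ((S : Subgroup A).inv_mem hk) h)
    obtain ⟨d, e, hd, he, hde⟩ := Nat.dvd_mul.mp (hA ▸ orderOf_dvd_natCard (k * x))
    rcases (Nat.dvd_prime hp).mp hd with rfl | rfl <;> rcases (Nat.dvd_prime hq).mp he with rfl | rfl
    · refine absurd ?_ hne1
      rw [orderOf_eq_one_iff.mp (by rw [← hde, one_mul] : orderOf (k * x) = 1)]
      exact one_mem _
    · refine absurd ?_ hne1
      have h3 : IsPGroup e (zpowers (k * x)) :=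
        IsPGroup.of_card (n := 1) (by rw [Nat.card_zpowers, ← hde, one_mul, pow_one])
      obtain ⟨T, hT⟩ := h3.exists_le_sylow
      obtain ⟨g, hg⟩ := MulAction.exists_smul_eq A S T
      rw [← hg, Sylow.smul_eq_of_normal] at hT
      exact hT (mem_zpowers _)
    · rw [← hde, mul_one]
    · exact absurd (isCyclic_of_orderOf_eq_card (k * x) (by rw [← hde, hA])) hc
  refine hV (eq_one_of_norm hp (S := Sg) (x := (x : G)) (hSA.trans hAV) (hAV x.2) ?_ ?_ ?_ ?_)
  · exact le_normalizer_map A.subtype ⟨x, by rw [Subgroup.normalizer_eq_top]; trivial, rfl⟩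
  · rintro _ ⟨k, hk, rfl⟩ z hz
    have h1 : ((k * x : A) : G) ≠ 1 := fun e => hp.ne_one (by
      rw [← hkx k hk, ← Subgroup.orderOf_coe, e, orderOf_one])
    refine fpf_pow_eq_one (hAV (k * x).2) ?_ (hfpf _ (k * x).2 h1) hz
    rw [← Subgroup.coe_pow, ← hkx k hk, pow_orderOf_eq_one, Subgroup.coe_one]
  · rw [hSg, Subgroup.card_map_of_injective A.subtype_injective, hS]
    obtain ⟨y, hy⟩ := exists_prime_orderOf_dvd_card' (G := A) q (hA ▸ dvd_mul_left q p)
    refine hq.coprime_iff_not_dvd.mpr (not_dvd_card_of_fpf (hAV y.2) (by rw [Subgroup.orderOf_coe, hy]) (hfpf _ y.2 ?_))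
    exact fun e => hq.ne_one (by rw [← hy, ← Subgroup.orderOf_coe, e, orderOf_one])
  · obtain ⟨y, hy⟩ := exists_prime_orderOf_dvd_card' (G := (S : Subgroup A)) q hS.symm.dvd
    have hy1 : ((y : A) : G) ≠ 1 := fun e => hq.ne_one (by
      rw [← hy, ← Subgroup.orderOf_coe, ← Subgroup.orderOf_coe, e, orderOf_one])
    rw [eq_bot_iff, ← hfpf _ (y : A).2 hy1]
    exact inf_le_inf le_rfl (centralizer_le (by
      rintro w rfl; exact ⟨(y : A), y.2, rfl⟩))

/-- An abelian nontrivial subgroup of the kernel normalised by the complement. -/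
theorem exists_abelian_module {K H : Subgroup G} [hKn : K.Normal] (hc : IsComplement' K H) (hK : K ≠ ⊥)
    (hH : H ≠ ⊥) (hfpf : ∀ h ∈ H, h ≠ 1 → K ⊓ centralizer {h} = ⊥) :
    ∃ V : Subgroup G, IsMulCommutative V ∧ V ≠ ⊥ ∧ H ≤ normalizer (V : Set G) ∧
      ∀ h ∈ H, h ≠ 1 → V ⊓ centralizer {h} = ⊥ := by
  have hF := frob_of_fpf hc hK hH hfpf
  have := kernel_nilpotent hF hc.disjoint
  set V := (center K).map K.subtype with hV
  have hVK : V ≤ K := map_subtype_le _
  have hcomm : IsMulCommutative V := ⟨⟨fun a b => by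
    obtain ⟨a', ha', ea⟩ := a.2
    obtain ⟨b', hb', eb⟩ := b.2
    apply Subtype.ext
    show (a : G) * b = b * a
    rw [← ea, ← eb, ← map_mul, ← map_mul, mem_center_iff.mp hb' a']⟩⟩
  refine ⟨V, hcomm, ?_, ?_, fun h hh h1 => ?_⟩
  · rw [hV, Ne, map_eq_bot_iff_of_injective _ K.subtype_injective]
    have : Nontrivial K := (nontrivial_iff_ne_bot K).mpr hK
    have h2 := CfsgLib.inf_center_ne_bot_of_nilpotent (G := K) (N := ⊤) (bot_lt_top.ne')
    rwa [top_inf_eq] at h2
  · have : V.Normal := inferInstance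
    rw [Subgroup.normalizer_eq_top]; exact le_top
  · exact eq_bot_iff.mpr ((inf_le_inf hVK le_rfl).trans (hfpf h hh h1).le)

theorem sylow_cyclic_or_quaternion {V : Subgroup G} [IsMulCommutative V] (hV : V ≠ ⊥) {A : Subgroup G}
    (hAV : A ≤ normalizer (V : Set G)) (hfpf : ∀ x ∈ A, x ≠ 1 → V ⊓ centralizer {x} = ⊥)
    {p : ℕ} [Fact p.Prime] (P : Sylow p A) :
    IsCyclic P ∨ ∃ n : ℕ, Nonempty (P ≃* QuaternionGroup (2 ^ n)) := by
  set Pg := (P : Subgroup A).map A.subtype with hPg
  have hle : Pg ≤ A := map_subtype_le _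
  have hP : IsPGroup p Pg := P.isPGroup'.map _
  have hu := uniqSub_of_fpf hV (hle.trans hAV) (fun x hx => hfpf x (hle hx)) hP
  have e : (P : Subgroup A) ≃* Pg := (P : Subgroup A).equivMapOfInjective _ A.subtype_injective
  rcases eq_or_ne p 2 with rfl | hp
  · rcases cyclic_or_quaternion_two hP hu with h | ⟨n, ⟨f⟩⟩
    · exact Or.inl (isCyclic_of_surjective e.symm e.symm.surjective)
    · exact Or.inr ⟨n, ⟨e.trans f⟩⟩
  · have := isCyclic_of_uniq_odd hp hP hu
    exact Or.inl (isCyclic_of_surjective e.symm e.symm.surjective)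

/-- A fixed-point-free `Z`-group has non-trivial centre. -/
theorem center_ne_bot_of_odd {V : Subgroup G} [IsMulCommutative V] (hV : V ≠ ⊥) {A : Subgroup G}
    (hAV : A ≤ normalizer (V : Set G)) (hfpf : ∀ x ∈ A, x ≠ 1 → V ⊓ centralizer {x} = ⊥)
    (hodd : Odd (Nat.card A)) (hA : A ≠ ⊥) : center A ≠ ⊥ := by
  have hnt : Nontrivial A := (nontrivial_iff_ne_bot A).mpr hA
  have hZ : IsZGroup A := ⟨fun p hp P => by
    have := Fact.mk hp
    rcases sylow_cyclic_or_quaternion hV hAV hfpf P with h | ⟨n, ⟨e⟩⟩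
    · exact h
    · exfalso
      have h1 : Nat.card (P : Subgroup A) = 4 * 2 ^ n := by
        rw [Nat.card_congr e.toEquiv, Nat.card_eq_fintype_card, QuaternionGroup.card]
      have h2 : 4 * 2 ^ n ∣ Nat.card A := h1 ▸ card_subgroup_dvd_card _
      exact hodd.not_two_dvd_nat ((Dvd.intro (2 * 2 ^ n) (by ring)).trans h2)⟩
  have hAc : IsCyclic (commutator A) := IsZGroup.isCyclic_commutator A
  set C := commutator A with hC
  have hcop := IsZGroup.coprime_commutator_index (G := A)
  obtain ⟨B, hB⟩ := Subgroup.exists_right_complement'_of_coprime hcop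
  by_cases hC0 : C = ⊥
  · intro hbot
    obtain ⟨x, hx⟩ := exists_ne (1 : A)
    refine hx ?_
    rw [← Subgroup.mem_bot, ← hbot, mem_center_iff]
    intro g
    have h1 : ⁅g, x⁆ ∈ C := commutator_mem_commutator (mem_top _) (mem_top _)
    rw [hC0, Subgroup.mem_bot, commutatorElement_eq_one_iff_mul_comm] at h1
    exact h1
  have hBne : B ≠ ⊥ := fun e => (IsZGroup.commutator_lt (G := A)).ne (isComplement'_bot_right.mp (e ▸ hB))
  obtain ⟨p, hp, hpB⟩ := Nat.exists_prime_and_dvd (n := Nat.card B) (fun e => hBne (card_eq_one.mp e))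
  have := Fact.mk hp
  obtain ⟨⟨x, hxB⟩, hxo⟩ := exists_prime_orderOf_dvd_card' (G := B) p hpB
  rw [Subgroup.orderOf_mk] at hxo
  have hBcomm : ∀ b ∈ B, b * x = x * b := fun b hb => by
    have h1 : ⁅b, x⁆ ∈ C := commutator_mem_commutator (mem_top _) (mem_top _)
    have h2 : ⁅b, x⁆ ∈ B := by
      rw [commutatorElement_def]; exact B.mul_mem (B.mul_mem (B.mul_mem hb hxB) (B.inv_mem hb)) (B.inv_mem hxB)
    exact commutatorElement_eq_one_iff_mul_comm.mp (Subgroup.disjoint_def.mp hB.disjoint h1 h2)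
  have hCcomm : IsMulCommutative C := inferInstance
  have hcent : zpowers x ≤ centralizer (C : Set A) := by
    refine CfsgLib.coprime_abelian_centralize (zpowers x) C (by rw [Subgroup.normalizer_eq_top]; exact le_top) ?_ ?_
    · rw [Nat.card_zpowers, hxo]
      refine hp.coprime_iff_not_dvd.mpr fun hd => ?_
      have h3 : p ∣ C.index := by rw [hB.symm.index_eq_card]; exact hpB
      exact hp.not_dvd_one (hcop ▸ Nat.dvd_gcd hd h3)
    · intro v hv hvp a ha
      suffices h : x * v = v * x by
        obtain ⟨i, rfl⟩ := ha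
        exact ((show Commute x v from h).zpow_left i).eq
      have hVn : (zpowers v).Normal := by
        have hle : zpowers v ≤ C := zpowers_le.mpr hv
        have hch : ((zpowers v).subgroupOf C).Characteristic := by
          refine characteristic_iff_map_eq.mpr fun φ => ?_
          classical
          have := Fintype.ofFinite C
          set L := (zpowers v).subgroupOf C with hL
          set S := (Finset.univ.filter fun a : C => a ^ Nat.card L = 1) with hS
          have hsub : (L : Set C).toFinset ⊆ S := fun w hw => by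
            rw [Set.mem_toFinset] at hw
            simp only [hS, Finset.mem_filter, Finset.mem_univ, true_and]
            exact orderOf_dvd_iff_pow_eq_one.mp (orderOf_dvd_natCard L hw)
          have hSle : S.card ≤ (L : Set C).toFinset.card := by
            rw [Set.toFinset_card, ← Nat.card_eq_fintype_card]
            exact IsCyclic.card_pow_eq_one_le Nat.card_pos
          have heq := Finset.eq_of_subset_of_card_le hsub hSle
          refine eq_of_le_of_card_ge ?_ (card_map_of_injective φ.injective).ge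
          rintro _ ⟨w, hw, rfl⟩
          have h3 : φ w ∈ S := by
            simp only [hS, Finset.mem_filter, Finset.mem_univ, true_and]
            rw [← map_pow, orderOf_dvd_iff_pow_eq_one.mp (orderOf_dvd_natCard L hw), map_one]
          rw [← heq, Set.mem_toFinset] at h3
          exact h3
        have h2 : (((zpowers v).subgroupOf C).map C.subtype).Normal := inferInstance
        rwa [subgroupOf_map_subtype, inf_eq_left.mpr hle] at h2
      set T := zpowers x ⊔ zpowers v with hT
      have hcard : Nat.card T = p * orderOf v := by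
        have hne : p ≠ orderOf v := fun e => by
          have h3 : p ∣ C.index := by rw [hB.symm.index_eq_card]; exact hpB
          exact hp.not_dvd_one (hcop ▸ Nat.dvd_gcd (e ▸ orderOf_dvd_natCard _ hv) h3)
        refine Nat.dvd_antisymm ?_ ?_
        · have := CfsgLib.card_sup_dvd_mul (zpowers x) (zpowers v)
          rwa [Nat.card_zpowers, Nat.card_zpowers, hxo] at this
        · refine ((Nat.coprime_primes hp hvp).mpr hne).mul_dvd_of_dvd_of_dvd ?_ ?_
          · exact hxo ▸ orderOf_dvd_natCard T (mem_sup_left (mem_zpowers x))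
          · exact orderOf_dvd_natCard T (mem_sup_right (mem_zpowers v))
      have hcyc : IsCyclic (T.map A.subtype) :=
        isCyclic_of_fpf_pq hV ((map_subtype_le _).trans hAV) (fun y hy => hfpf y (map_subtype_le _ hy)) hp hvp
          (by rw [card_map_of_injective A.subtype_injective, hcard])
      have h4 := (IsCyclic.commGroup (α := T.map A.subtype)).mul_comm
        ⟨x, mem_map_of_mem _ (mem_sup_left (mem_zpowers x))⟩
        ⟨v, mem_map_of_mem _ (mem_sup_right (mem_zpowers v))⟩
      exact Subtype.ext (congrArg (fun y : T.map A.subtype => (y : G)) h4)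
  intro hbot
  have hxc : x ∈ center A := by
    rw [mem_center_iff]
    intro g
    obtain ⟨⟨⟨c, hc⟩, ⟨b, hb⟩⟩, rfl⟩ :=
      (show Function.Surjective fun z : C × B => (z.1 : A) * z.2 from hB.2) g
    show c * b * x = x * (c * b)
    rw [mul_assoc, hBcomm b hb, ← mul_assoc,
      mem_centralizer_iff.mp (hcent (mem_zpowers x)) c hc, mul_assoc]
  rw [hbot, Subgroup.mem_bot] at hxc
  rw [hxc, orderOf_one] at hxo
  exact hp.one_lt.ne hxo

end CfsgLib.Frob
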