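import Mathlib
import Cfsg.Agent.Lib.Frobenius.Complement

/-!
Further facts on Frobenius groups: kernel of a split decomposition, normal subgroups, quotients.
-/

set_option autoImplicit false

namespace CfsgLib.Frob

open Cfsg Subgroup
open scoped Pointwise commutatorElement

universe u
variable {G : Type u} [Group G] [Finite G] {H : Subgroup G}

/-- A normal complement of a Frobenius complement is the kernel. -/
theorem kernel_eq_of_complement (hH : IsFrobeniusComplement H) {K : Subgroup G} [K.Normal]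
    (hc : IsComplement' K H) : (K : Set G) = frobeniusKernel H := by
  obtain ⟨N, hN, hNn, hNc⟩ := exists_kernel hH
  have hle : K ≤ N := by
    intro k hk
    rw [← QuotientGroup.eq_one_iff]
    have h1 : (Nat.card K).Coprime (Nat.card (G ⧸ N)) := by
      rw [← hc.index_eq_card, ← Subgroup.index_eq_card, hNc.symm.index_eq_card]
      exact (coprime_index hH).symm
    refine orderOf_eq_one_iff.mp (Nat.eq_one_of_dvd_coprimes h1 ?_ (orderOf_dvd_natCard _))
    exact (orderOf_map_dvd (QuotientGroup.mk' N) k).trans (Subgroup.orderOf_dvd_natCard K hk)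
  have he : K = N := Subgroup.eq_of_le_of_card_ge hle (by
    rw [← hc.index_eq_card, ← hNc.index_eq_card])
  rw [he, hN]

theorem card_kernel_eq (hH : IsFrobeniusComplement H) {K : Subgroup G}
    (hK : (K : Set G) = frobeniusKernel H) : Nat.card K = H.index := by
  rw [← card_kernel hH, ← hK]; rfl

theorem isComplement_of_eq_kernel (hH : IsFrobeniusComplement H) {K : Subgroup G}
    (hK : (K : Set G) = frobeniusKernel H) : K.Normal ∧ IsComplement' K H := by
  obtain ⟨N, hN, hNn, hNc⟩ := exists_kernel hH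
  have : K = N := SetLike.coe_injective (hK.trans hN.symm)
  subst this
  exact ⟨hNn, hNc⟩

theorem kernel_ne_bot (hH : IsFrobeniusComplement H) {K : Subgroup G} (hc : IsComplement' K H) : K ≠ ⊥ :=
  fun e => hH.2.1 (isComplement'_bot_left.mp (e ▸ hc))

/-- A normal subgroup contains the kernel or lies in it. -/
theorem normal_le_or_ge_kernel (hH : IsFrobeniusComplement H) {K : Subgroup G} [hKn : K.Normal]
    (hc : IsComplement' K H) (N : Subgroup G) [hNn : N.Normal] : K ≤ N ∨ N ≤ K := by
  rw [or_iff_not_imp_right]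
  intro hNK
  obtain ⟨m, hm, hmK⟩ := SetLike.not_le_iff_exists.mp hNK
  have hm1 : m ≠ 1 := fun e => hmK (e ▸ K.one_mem)
  have hk := kernel_eq_of_complement hH hc
  obtain ⟨g, hg⟩ : ∃ g : G, m ∈ MulAut.conj g • H := by
    by_contra h
    exact hmK (hk.symm ▸ (Or.inr (not_exists.mp h) : m ∈ frobeniusKernel H) : m ∈ (K : Set G))
  rw [mem_conj_smul_iff] at hg
  set h := g⁻¹ * m * g with hh
  have hhN : h ∈ N := by simpa [hh] using hNn.conj_mem m hm g⁻¹
  have hh1 : h ≠ 1 := fun e => hm1 (by
    calc m = g * h * g⁻¹ := by rw [hh]; group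
      _ = 1 := by rw [e]; group)
  let f : K → K := fun k => ⟨(k : G)⁻¹ * (h * k * h⁻¹), K.mul_mem (K.inv_mem k.2) (hKn.conj_mem k k.2 h)⟩
  have hf : Function.Injective f := by
    intro a b hab
    have h1 : (a : G)⁻¹ * (h * a * h⁻¹) = (b : G)⁻¹ * (h * b * h⁻¹) := congrArg Subtype.val hab
    have h2 : (b : G) * (a : G)⁻¹ ∈ K ⊓ centralizer {h} := by
      refine ⟨K.mul_mem b.2 (K.inv_mem a.2), mem_centralizer_singleton_iff.mpr ?_⟩
      calc (b : G) * (a : G)⁻¹ * h = b * ((a : G)⁻¹ * (h * a * h⁻¹)) * h * (a : G)⁻¹ := by group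
        _ = b * ((b : G)⁻¹ * (h * b * h⁻¹)) * h * (a : G)⁻¹ := by rw [h1]
        _ = h * (b * (a : G)⁻¹) := by group
    rw [fpf_of_frob hc.disjoint hH hg hh1, Subgroup.mem_bot] at h2
    exact Subtype.ext (mul_inv_eq_one.mp h2).symm
  intro k hk'
  obtain ⟨a, ha⟩ := Finite.surjective_of_injective hf ⟨k, hk'⟩
  have h3 : (a : G)⁻¹ * (h * a * h⁻¹) = k := congrArg Subtype.val ha
  rw [← h3, show (a : G)⁻¹ * (h * a * h⁻¹) = ((a : G)⁻¹ * h * a) * h⁻¹ by group]
  exact N.mul_mem (by simpa using hNn.conj_mem h hhN (a : G)⁻¹) (N.inv_mem hhN)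

theorem kernel_characteristic (hH : IsFrobeniusComplement H) {K : Subgroup G} [K.Normal]
    (hc : IsComplement' K H) : K.Characteristic := by
  refine characteristic_iff_map_eq.mpr fun φ => ?_
  have hn : (K.map φ.toMonoidHom).Normal := (inferInstance : K.Normal).map _ φ.surjective
  have h1 : Nat.card (K.map φ.toMonoidHom) = Nat.card K := card_map_of_injective φ.injective
  rcases normal_le_or_ge_kernel hH hc (K.map φ.toMonoidHom) with h | h
  · exact (eq_of_le_of_card_ge h h1.le).symm
  · exact eq_of_le_of_card_ge h h1.ge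

/-- A subgroup of order dividing `|H|` lies in a conjugate of `H`. -/
theorem le_conj_of_card_dvd (hH : IsFrobeniusComplement H) (L : Subgroup G) (hL : Nat.card L ∣ Nat.card H) :
    ∃ x : G, L ≤ MulAut.conj x • H := by
  obtain ⟨N, -, hNn, hNc, hNnil⟩ := exists_nilpotent_kernel hH
  have hcop : (Nat.card N).Coprime (Nat.card H) := by
    rw [← hNc.index_eq_card]; exact (coprime_index hH).symm
  set M := L ⊔ N with hM
  have hLM : L ≤ M := le_sup_left
  have hNM : N ≤ M := le_sup_right
  set N' := N.subgroupOf M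
  have hN'n : N'.Normal := hNn.comap M.subtype
  have hcardN : Nat.card N' = Nat.card N := Nat.card_congr (subgroupOfEquivOfLe hNM).toEquiv
  have hcop' : (Nat.card N).Coprime (Nat.card L) := hcop.coprime_dvd_right hL
  have hdL : Disjoint N L := disjoint_of_coprime_natCard hcop'
  have hLc : IsComplement' N' (L.subgroupOf M) := by
    refine isComplement'_of_disjoint_and_mul_eq_univ ?_ ?_
    · rw [disjoint_def]
      intro x hx hy
      exact Subtype.ext (disjoint_def.mp hdL hx hy)
    · rw [Set.eq_univ_iff_forall]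
      rintro ⟨x, hx⟩
      obtain ⟨n, hn, l, hl, rfl⟩ := Subgroup.mem_sup_of_normal_left.mp ((sup_comm L N).le hx)
      exact ⟨⟨n, hNM hn⟩, hn, ⟨l, hLM hl⟩, hl, rfl⟩
  have hHc : IsComplement' N' (H.subgroupOf M) := by
    refine isComplement'_of_disjoint_and_mul_eq_univ ?_ ?_
    · rw [disjoint_def]
      intro x hx hy
      exact Subtype.ext (disjoint_def.mp hNc.disjoint hx hy)
    · rw [Set.eq_univ_iff_forall]
      rintro ⟨x, hx⟩
      obtain ⟨⟨⟨n, hn⟩, ⟨k, hk⟩⟩, rfl⟩ := (show Function.Surjective fun z : N × H => (z.1 : G) * z.2 from hNc.2) x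
      refine ⟨⟨n, hNM hn⟩, hn, ⟨k, ?_⟩, hk, rfl⟩
      have := M.mul_mem (M.inv_mem (hNM hn)) hx
      simpa using this
  have hidx : (Nat.card N').Coprime N'.index := by
    rw [hcardN, hLc.symm.index_eq_card, Nat.card_congr (subgroupOfEquivOfLe hLM).toEquiv]
    exact hcop'
  have hs : Group.IsSolvable N' :=
    Group.isSolvable_of_isSolvable_injective (subgroupOfEquivOfLe hNM).injective
      (f := (subgroupOfEquivOfLe hNM).toMonoidHom)
  obtain ⟨g, hg⟩ := CfsgLib.complements_conj hidx (Or.inl hs) hHc hLc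
  refine ⟨g, fun l hl => ?_⟩
  have h1 : (⟨l, hLM hl⟩ : M) ∈ MulAut.conj g • H.subgroupOf M := by rw [hg]; exact hl
  rw [mem_conj_smul_iff] at h1 ⊢
  exact h1

/-- The fixed-point form of the complement in a quotient. -/
theorem frob_quotient (hH : IsFrobeniusComplement H) {K : Subgroup G} [hKn : K.Normal]
    (hc : IsComplement' K H) (N : Subgroup G) [hNn : N.Normal] (hKN : ¬ K ≤ N) :
    IsFrobeniusComplement (H.map (QuotientGroup.mk' N)) ∧
      IsComplement' (K.map (QuotientGroup.mk' N)) (H.map (QuotientGroup.mk' N)) := by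
  have hNK : N ≤ K := (normal_le_or_ge_kernel hH hc N).resolve_left hKN
  set π := QuotientGroup.mk' N with hπ
  have hKn' : (K.map π).Normal := hKn.map π (QuotientGroup.mk'_surjective N)
  have hc' : IsComplement' (K.map π) (H.map π) := by
    refine isComplement'_of_disjoint_and_mul_eq_univ ?_ ?_
    · rw [disjoint_def]
      rintro _ ⟨k, hk, rfl⟩ ⟨h, hh, he⟩
      have h1 : h⁻¹ * k ∈ N := by
        rw [← QuotientGroup.eq_one_iff]
        show π (h⁻¹ * k) = 1
        rw [map_mul, map_inv, he, inv_mul_cancel]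
      have h2 : h ∈ K := by
        have := K.mul_mem hk (K.inv_mem (hNK h1))
        simpa using this
      rw [← he, disjoint_def.mp hc.disjoint h2 hh, map_one]
    · rw [Set.eq_univ_iff_forall]
      intro y
      obtain ⟨g, rfl⟩ := QuotientGroup.mk'_surjective N y
      obtain ⟨⟨⟨k, hk⟩, ⟨h, hh⟩⟩, rfl⟩ := (show Function.Surjective fun z : K × H => (z.1 : G) * z.2 from hc.2) g
      exact ⟨π k, mem_map_of_mem _ hk, π h, mem_map_of_mem _ hh, (map_mul π k h).symm⟩
  refine ⟨frob_of_fpf hc' ?_ ?_ ?_, hc'⟩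
  · rw [Ne, Subgroup.map_eq_bot_iff, QuotientGroup.ker_mk']; exact hKN
  · intro e
    rw [Subgroup.map_eq_bot_iff, QuotientGroup.ker_mk'] at e
    exact hH.1 (eq_bot_iff.mpr fun h hh => Subgroup.mem_bot.mpr (disjoint_def.mp hc.disjoint (hNK (e hh)) hh))
  · rintro _ ⟨h, hh, rfl⟩ hne
    rw [Subgroup.eq_bot_iff_forall]
    rintro y ⟨⟨k, hk, rfl⟩, hky⟩
    have hh1 : h ≠ 1 := fun e => hne (by rw [e, map_one])
    let φ : MulAut K := MulAut.conjNormal h
    have hφ : MonoidHom.FixedPointFree (φ : K →* K) := fun a ha => by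
      have h1 : h * a * h⁻¹ = a := by rw [← MulAut.conjNormal_apply]; exact congrArg Subtype.val ha
      have h2 : (a : G) ∈ K ⊓ centralizer {h} :=
        ⟨a.2, mem_centralizer_singleton_iff.mpr (mul_inv_eq_iff_eq_mul.mp h1).symm⟩
      rw [fpf_of_frob hc.disjoint hH hh hh1, Subgroup.mem_bot] at h2
      exact Subtype.ext h2
    refine (QuotientGroup.eq_one_iff k).mpr
      (fpf_mem_of_coset (φ : K →* K) hφ (N.subgroupOf K) (fun n hn => ?_) (x := ⟨k, hk⟩) ?_)
    · show ((φ n : K) : G) ∈ N
      rw [MulAut.conjNormal_apply]; exact hNn.conj_mem _ hn h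
    · show ((φ ⟨k, hk⟩ : K) : G)⁻¹ * k ∈ N
      rw [MulAut.conjNormal_apply, ← QuotientGroup.eq_one_iff]
      show π ((h * k * h⁻¹)⁻¹ * k) = 1
      rw [map_mul, map_inv, map_mul, map_mul, map_inv, ← mem_centralizer_singleton_iff.mp hky]
      group

/-- A Frobenius group acting on an abelian group of coprime kernel order with the kernel fixed-point-free:
the complement has a fixed point. -/
theorem complement_fixed_ne_bot {V : Subgroup G} [hVc : IsMulCommutative V] (hV : V ≠ ⊥) {F : Subgroup G}
    (hFV : F ≤ normalizer (V : Set G)) (C : Subgroup F) (hC : IsFrobeniusComplement C)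
    (hcop : (Nat.card V).Coprime (Nat.card (frobeniusKernel C)))
    (hCK : V ⊓ centralizer (Subtype.val '' frobeniusKernel C : Set G) = ⊥) :
    V ⊓ centralizer ((C.map F.subtype : Subgroup G) : Set G) ≠ ⊥ := by
  classical
  intro hbot
  apply hV
  obtain ⟨K, hK, hKn, hKc⟩ := exists_kernel hC
  rw [← hK] at hCK hcop
  have := Fintype.ofFinite F
  have := Fintype.ofFinite K
  have := Fintype.ofFinite C
  open scoped IsMulCommutative in
  have main : ∀ z : V, z ^ Nat.card K = 1 := by
    intro z
    let τ : F →* MulAut V := (normalizerMonoidHom V).comp (Subgroup.inclusion hFV)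
    have hfix : ∀ (S : Subgroup F) [Fintype S] (w : V), ∀ s ∈ S, τ s (∏ t : S, τ t w) = ∏ t : S, τ t w := by
      intro S _ w s hs
      rw [map_prod]
      refine Fintype.prod_equiv (Equiv.mulLeft (⟨s, hs⟩ : S)) _ _ fun t => ?_
      show τ s (τ t w) = τ (s * (t : F)) w
      rw [map_mul, MulAut.mul_apply]
    have hcomm : ∀ (w : V) (s : F), τ s w = w → (s : G) * w = w * s := fun w s h => by
      have h1 : (s : G) * w * (s : G)⁻¹ = w := congrArg Subtype.val h
      exact mul_inv_eq_iff_eq_mul.mp h1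
    have hKtr : ∀ w : V, ∏ t : K, τ t w = 1 := fun w => Subtype.ext (Subgroup.mem_bot.mp (hCK ▸
      ⟨SetLike.coe_mem _, by
        rintro _ ⟨s, hs, rfl⟩
        exact hcomm _ s (hfix K w s hs)⟩ : ((∏ t : K, τ t w : V) : G) ∈ (⊥ : Subgroup G)))
    have hCtr : ∀ w : V, ∏ t : C, τ t w = 1 := fun w => Subtype.ext (Subgroup.mem_bot.mp (hbot ▸
      ⟨SetLike.coe_mem _, by
        rintro _ ⟨s, hs, rfl⟩
        exact hcomm _ s (hfix C w s hs)⟩ : ((∏ t : C, τ t w : V) : G) ∈ (⊥ : Subgroup G)))
    -- the partition of `F` into the kernel and the conjugates of the complement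
    let e : K × C → F := fun a => if a.2 = 1 then (a.1 : F) else (a.1 : F) * (a.2 : F) * (a.1 : F)⁻¹
    have he : Function.Bijective e := by
      refine (Fintype.bijective_iff_injective_and_card e).mpr ⟨?_, ?_⟩
      · have hmix : ∀ (k k' : K) (c : C), c ≠ 1 → (k : F) * c * (k : F)⁻¹ ≠ k' := fun k k' c hc h => by
          refine hc (Subtype.ext (disjoint_def.mp hKc.disjoint ?_ c.2))
          have h' := K.mul_mem (K.mul_mem (K.inv_mem k.2) k'.2) k.2
          rw [← h] at h'
          simpa [mul_assoc] using h'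
        rintro ⟨k, c⟩ ⟨k', c'⟩ h
        simp only [e] at h
        split_ifs at h with h1 h2 h2
        · exact Prod.ext (Subtype.ext h) (h1.trans h2.symm)
        · exact absurd h.symm (hmix k' k c' h2)
        · exact absurd h (hmix k k' c h1)
        · have h3 : ((k' : F)⁻¹ * k) * c * ((k' : F)⁻¹ * k)⁻¹ ∈ C := by
            have : ((k' : F)⁻¹ * k) * c * ((k' : F)⁻¹ * k)⁻¹ = c' := by
              calc _ = (k' : F)⁻¹ * ((k : F) * c * (k : F)⁻¹) * k' := by group
                _ = c' := by rw [h]; group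
            exact this ▸ c'.2
          have hk : (k' : F)⁻¹ * k = 1 := by
            refine disjoint_def.mp hKc.disjoint (K.mul_mem (K.inv_mem k'.2) k.2) ?_
            by_contra hn
            exact h1 (Subtype.ext (frob_ti hC hn c.2 h3))
          have hkk : k = k' := Subtype.ext (inv_mul_eq_one.mp hk).symm
          subst hkk
          exact Prod.ext rfl (Subtype.ext (mul_left_cancel (mul_right_cancel h)))
      · rw [Fintype.card_prod, ← Nat.card_eq_fintype_card, ← Nat.card_eq_fintype_card,
          ← Nat.card_eq_fintype_card]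
        exact hKc.card_mul_card
    have hall : ∏ s : F, τ s z = 1 := by
      refine Subtype.ext (Subgroup.mem_bot.mp (hCK ▸ ⟨SetLike.coe_mem _, ?_⟩ :
        ((∏ s : F, τ s z : V) : G) ∈ (⊥ : Subgroup G)))
      rintro _ ⟨s, hs, rfl⟩
      refine hcomm _ s ?_
      rw [map_prod]
      refine Fintype.prod_equiv (Equiv.mulLeft s) _ _ fun t => ?_
      show τ s (τ t z) = τ (s * t) z
      rw [map_mul, MulAut.mul_apply]
    rw [← (Equiv.ofBijective e he).prod_comp, Fintype.prod_prod_type] at hall
    have hk : ∀ k : K, ∏ c : C, τ (e (k, c)) z = τ (k : F) z * z⁻¹ := fun k => by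
      have h1 : ∏ c : C, τ ((k : F) * c * (k : F)⁻¹) z = 1 := by
        calc _ = τ (k : F) (∏ c : C, τ c (τ (k : F)⁻¹ z)) := by
              rw [map_prod]
              exact Finset.prod_congr rfl fun c _ => by rw [map_mul, map_mul, MulAut.mul_apply, MulAut.mul_apply]
          _ = 1 := by rw [hCtr, map_one]
      rw [← Finset.mul_prod_erase _ _ (Finset.mem_univ (1 : C))] at h1 ⊢
      rw [OneMemClass.coe_one, mul_one, mul_inv_cancel, map_one, MulAut.one_apply] at h1
      rw [show e (k, 1) = (k : F) from if_pos rfl, inv_eq_of_mul_eq_one_right h1]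
      congr 1
      exact Finset.prod_congr rfl fun c hc => by rw [show e (k, c) = _ from if_neg (Finset.ne_of_mem_erase hc)]
    simp only [Equiv.ofBijective_apply] at hall
    rw [Finset.prod_congr rfl (fun k _ => hk k), Finset.prod_mul_distrib, hKtr, one_mul,
      Finset.prod_const, Finset.card_univ, ← Nat.card_eq_fintype_card, inv_pow, inv_eq_one] at hall
    exact hall
  rw [Subgroup.eq_bot_iff_forall]
  intro z hz
  have h1 : (Nat.card (K : Set F)) = Nat.card K := rfl
  have h2 := Nat.eq_one_of_dvd_coprimes (h1 ▸ hcop) (orderOf_dvd_natCard (⟨z, hz⟩ : V))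
    (orderOf_dvd_of_pow_eq_one (main ⟨z, hz⟩))
  exact congrArg Subtype.val (orderOf_eq_one_iff.mp h2)

end CfsgLib.Frob
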