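import Mathlib
import Cfsg.Agent.Lib.Frobenius.More

/-!
Building Frobenius groups from fixed-point-free actions, in particular from subgroups of `SL₂` of order
prime to the characteristic.
-/

set_option autoImplicit false

namespace CfsgLib.Frob

open Cfsg Subgroup
open scoped Pointwise MatrixGroups

theorem exists_frob_of_aut {A H : Type} [Group A] [Finite A] [Group H] [Finite H] [Nontrivial A] [Nontrivial H]
    (φ : H →* MulAut A) (hfpf : ∀ h, h ≠ 1 → ∀ a, φ h a = a → a = 1) :
    ∃ (L : Type) (_ : Group L) (_ : Finite L) (C : Subgroup L), IsFrobeniusComplement C ∧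
      Nonempty (H ≃* C) ∧ Nat.card (frobeniusKernel C) = Nat.card A := by
  set L := A ⋊[φ] H with hL
  have : Finite L := Finite.of_equiv _ SemidirectProduct.equivProd.symm
  set K : Subgroup L := (SemidirectProduct.inl (φ := φ)).range with hKdef
  set C : Subgroup L := (SemidirectProduct.inr (φ := φ)).range with hCdef
  have hKn : K.Normal := by rw [hKdef, SemidirectProduct.range_inl_eq_ker_rightHom]; infer_instance
  have hc : IsComplement' K C := by
    refine isComplement'_of_card_mul_and_disjoint ?_ ?_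
    · rw [← Nat.card_congr (MonoidHom.ofInjective (f := (SemidirectProduct.inl : A →* L)) SemidirectProduct.inl_injective).toEquiv,
        ← Nat.card_congr (MonoidHom.ofInjective (f := (SemidirectProduct.inr : H →* L)) SemidirectProduct.inr_injective).toEquiv,
        SemidirectProduct.card]
    · rw [disjoint_def]
      rintro _ ⟨a, rfl⟩ ⟨h, he⟩
      have h1 := congrArg SemidirectProduct.right he
      rw [SemidirectProduct.right_inr, SemidirectProduct.right_inl] at h1
      rw [← he, h1, map_one]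
  have hK : K ≠ ⊥ := by
    obtain ⟨a, ha⟩ := exists_ne (1 : A)
    intro e
    exact ha (SemidirectProduct.inl_injective (φ := φ) (by
      rw [map_one]
      exact Subgroup.mem_bot.mp (e ▸ (⟨a, rfl⟩ : SemidirectProduct.inl a ∈ K))))
  have hC : C ≠ ⊥ := by
    obtain ⟨a, ha⟩ := exists_ne (1 : H)
    intro e
    exact ha (SemidirectProduct.inr_injective (φ := φ) (by
      rw [map_one]
      exact Subgroup.mem_bot.mp (e ▸ (⟨a, rfl⟩ : SemidirectProduct.inr a ∈ C))))
  have hF : IsFrobeniusComplement C := by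
    refine frob_of_fpf hc hK hC ?_
    rintro _ ⟨h, rfl⟩ hne
    rw [Subgroup.eq_bot_iff_forall]
    rintro _ ⟨⟨a, rfl⟩, ha⟩
    have h1 := mem_centralizer_singleton_iff.mp ha
    have h2 : (SemidirectProduct.inl (φ h a) : L) = SemidirectProduct.inl a := by
      rw [SemidirectProduct.inl_aut]
      calc _ = (SemidirectProduct.inl a * SemidirectProduct.inr h : L) * SemidirectProduct.inr h⁻¹ := by rw [h1]
        _ = SemidirectProduct.inl a := by rw [mul_assoc, ← map_mul, mul_inv_cancel, map_one, mul_one]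
    rw [hfpf h (fun e => hne (by rw [e, map_one])) a (SemidirectProduct.inl_injective h2), map_one]
  refine ⟨L, inferInstance, inferInstance, C, hF, ⟨MonoidHom.ofInjective SemidirectProduct.inr_injective⟩, ?_⟩
  rw [← kernel_eq_of_complement hF hc]
  exact (Nat.card_congr (MonoidHom.ofInjective (f := (SemidirectProduct.inl : A →* L)) SemidirectProduct.inl_injective).toEquiv).symm

/-- The action of `GL_n` on column vectors, as automorphisms of a multiplicative group. -/
noncomputable def mulVecAut {R : Type} [CommRing R] {n : ℕ} :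
    Matrix.SpecialLinearGroup (Fin n) R →* MulAut (Multiplicative (Fin n → R)) where
  toFun g :=
    { toFun := fun v => Multiplicative.ofAdd ((g : Matrix (Fin n) (Fin n) R).mulVec v.toAdd)
      invFun := fun v => Multiplicative.ofAdd (((g⁻¹ : Matrix.SpecialLinearGroup (Fin n) R) : Matrix (Fin n) (Fin n) R).mulVec v.toAdd)
      left_inv := fun v => by
        simp only [toAdd_ofAdd, Matrix.mulVec_mulVec, ← Matrix.SpecialLinearGroup.coe_mul, inv_mul_cancel]
        simp
      right_inv := fun v => by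
        simp only [toAdd_ofAdd, Matrix.mulVec_mulVec, ← Matrix.SpecialLinearGroup.coe_mul, mul_inv_cancel]
        simp
      map_mul' := fun v w => by simp [Matrix.mulVec_add] }
  map_one' := MulEquiv.ext fun v => by simp
  map_mul' g h := MulEquiv.ext fun v => by simp [Matrix.mulVec_mulVec]

/-- A subgroup of `SL₂(F)` of order prime to the characteristic is a Frobenius complement. -/
theorem exists_frob_of_sl2 {F : Type} [Field F] [Finite F] {p : ℕ} [CharP F p] {H : Type} [Group H] [Finite H]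
    [Nontrivial H] (ρ : H →* Matrix.SpecialLinearGroup (Fin 2) F) (hρ : Function.Injective ρ)
    (hcop : ¬ p ∣ Nat.card H) :
    ∃ (L : Type) (_ : Group L) (_ : Finite L) (C : Subgroup L), IsFrobeniusComplement C ∧
      Nonempty (H ≃* C) ∧ Nat.card (frobeniusKernel C) = Nat.card (Fin 2 → F) := by
  have hfpf : ∀ h : H, h ≠ 1 → ∀ v : Fin 2 → F, (ρ h : Matrix (Fin 2) (Fin 2) F).mulVec v = v → v = 0 := by
    intro h hh v hv
    by_contra hv0
    apply hh
    apply hρ
    rw [map_one]
    set g : Matrix (Fin 2) (Fin 2) F := (ρ h : Matrix (Fin 2) (Fin 2) F) with hg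
    have hdet : (g - 1).det = 0 := Matrix.exists_mulVec_eq_zero_iff.mp
      ⟨v, hv0, by rw [Matrix.sub_mulVec, hv, Matrix.one_mulVec, sub_self]⟩
    have hd1 : g.det = 1 := (ρ h).2
    rw [Matrix.det_fin_two] at hd1 hdet
    simp at hdet
    have htr : g 0 0 + g 1 1 = 2 := by linear_combination hd1 - hdet
    have hsq : (g - 1) * (g - 1) = 0 := by
      ext i j
      fin_cases i <;> fin_cases j <;> simp [Matrix.mul_apply, Fin.sum_univ_two]
      · linear_combination (g 0 0) * htr - hd1
      · linear_combination (g 0 1) * htr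
      · linear_combination (g 1 0) * htr
      · linear_combination (g 1 1) * htr - hd1
    have hpow : ∀ m : ℕ, g ^ m = 1 + m • (g - 1) := by
      intro m
      induction m with
      | zero => simp
      | succ m ih =>
        rw [pow_succ, ih]
        nth_rw 2 [show g = 1 + (g - 1) by abel]
        rw [add_mul, mul_add, mul_add, one_mul, one_mul, smul_mul_assoc, smul_mul_assoc, mul_one, hsq,
          smul_zero, add_zero, succ_nsmul]
        abel
    have hm : g ^ orderOf h = 1 := by
      rw [hg, ← Matrix.SpecialLinearGroup.coe_pow, ← map_pow, pow_orderOf_eq_one, map_one]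
      rfl
    rw [hpow, add_eq_left] at hm
    have hg1 : g - 1 = 0 := by
      have h0 : (orderOf h : F) ≠ 0 := fun e =>
        hcop (((CharP.cast_eq_zero_iff F p _).mp e).trans (orderOf_dvd_natCard h))
      rw [← Nat.cast_smul_eq_nsmul F] at hm
      exact (smul_eq_zero.mp hm).resolve_left h0
    apply Matrix.SpecialLinearGroup.ext
    intro i j
    rw [← hg, sub_eq_zero.mp hg1]
    rfl
  exact exists_frob_of_aut (A := Multiplicative (Fin 2 → F)) ((mulVecAut (R := F) (n := 2)).comp ρ) fun h hh a ha =>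
    Multiplicative.toAdd.injective (hfpf h hh a.toAdd (congrArg Multiplicative.toAdd ha))

/-- Multiplicativity only needs to be checked against the elementary matrices. -/
theorem map_mul_of_gens {p : ℕ} [Fact p.Prime] {M : Type} [Monoid M]
    (f : Matrix.SpecialLinearGroup (Fin 2) (ZMod p) → M) (h1 : f 1 = 1)
    (T V : Matrix.SpecialLinearGroup (Fin 2) (ZMod p))
    (hT : (T : Matrix (Fin 2) (Fin 2) (ZMod p)) = !![1, 1; 0, 1])
    (hV : (V : Matrix (Fin 2) (Fin 2) (ZMod p)) = !![1, 0; 1, 1])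
    (hfT : ∀ x, f (x * T) = f x * f T) (hfV : ∀ x, f (x * V) = f x * f V) :
    ∀ x y, f (x * y) = f x * f y := by
  let S : Submonoid (Matrix.SpecialLinearGroup (Fin 2) (ZMod p)) :=
    { carrier := {y | ∀ x, f (x * y) = f x * f y}
      one_mem' := fun x => by rw [mul_one, h1, mul_one]
      mul_mem' := fun {a b} ha hb x => by rw [← mul_assoc, hb, ha, hb a, mul_assoc] }
  suffices hS : ∀ y, y ∈ S from fun x y => hS y x
  have hTp : ∀ k : ℕ, ((T ^ k : Matrix.SpecialLinearGroup (Fin 2) (ZMod p)) : Matrix (Fin 2) (Fin 2) (ZMod p)) =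
      !![1, (k : ZMod p); 0, 1] := fun k => by
    induction k with
    | zero => ext i j; fin_cases i <;> fin_cases j <;> simp
    | succ k ih =>
      rw [pow_succ, Matrix.SpecialLinearGroup.coe_mul, ih, hT]
      ext i j; fin_cases i <;> fin_cases j <;> simp [Matrix.mul_apply, Fin.sum_univ_two]; ring
  have hVp : ∀ k : ℕ, ((V ^ k : Matrix.SpecialLinearGroup (Fin 2) (ZMod p)) : Matrix (Fin 2) (Fin 2) (ZMod p)) =
      !![1, 0; (k : ZMod p), 1] := fun k => by
    induction k with
    | zero => ext i j; fin_cases i <;> fin_cases j <;> simp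
    | succ k ih =>
      rw [pow_succ, Matrix.SpecialLinearGroup.coe_mul, ih, hV]
      ext i j; fin_cases i <;> fin_cases j <;> simp [Matrix.mul_apply, Fin.sum_univ_two]
  have hlow : ∀ y : Matrix.SpecialLinearGroup (Fin 2) (ZMod p),
      (y : Matrix (Fin 2) (Fin 2) (ZMod p)) 1 0 ≠ 0 → y ∈ S := by
    intro y hc
    set a := (y : Matrix (Fin 2) (Fin 2) (ZMod p)) 0 0 with ha
    set b := (y : Matrix (Fin 2) (Fin 2) (ZMod p)) 0 1 with hb
    set c := (y : Matrix (Fin 2) (Fin 2) (ZMod p)) 1 0 with hc'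
    set d := (y : Matrix (Fin 2) (Fin 2) (ZMod p)) 1 1 with hd
    have hdet : a * d - b * c = 1 := by
      have := y.2; rwa [Matrix.det_fin_two, ← ha, ← hb, ← hc', ← hd] at this
    have hy : y = T ^ ((a - 1) / c).val * V ^ c.val * T ^ ((d - 1) / c).val := by
      apply Matrix.SpecialLinearGroup.ext
      intro i j
      rw [Matrix.SpecialLinearGroup.coe_mul, Matrix.SpecialLinearGroup.coe_mul, hTp, hVp, hTp,
        ZMod.natCast_zmod_val, ZMod.natCast_zmod_val, ZMod.natCast_zmod_val]
      fin_cases i <;> fin_cases j <;>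
        simp [Matrix.mul_apply, Fin.sum_univ_two, ← ha, ← hb, ← hc', ← hd] <;> field_simp <;>
        first | ring1 | linear_combination hdet | linear_combination -hdet
    rw [hy]
    exact S.mul_mem (S.mul_mem (S.pow_mem hfT _) (S.pow_mem hfV _)) (S.pow_mem hfT _)
  intro y
  by_cases hc : (y : Matrix (Fin 2) (Fin 2) (ZMod p)) 1 0 = 0
  · have h2 : y * V ∈ S := hlow _ (by
      rw [Matrix.SpecialLinearGroup.coe_mul, hV]
      simp [Matrix.mul_apply, Fin.sum_univ_two, hc]
      intro hd
      have := y.2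
      rw [Matrix.det_fin_two, hc, hd] at this
      simp at this)
    have hVinv : V⁻¹ ∈ S := by
      obtain ⟨k, hk⟩ := (Submonoid.mem_powers_iff _ _).mp
        (mem_powers_iff_mem_zpowers.mpr (Subgroup.inv_mem _ (Subgroup.mem_zpowers V)) : V⁻¹ ∈ Submonoid.powers V)
      exact hk ▸ S.pow_mem hfV k
    simpa using S.mul_mem h2 hVinv
  · exact hlow y hc

/-- Decode the packed table entry of a matrix given by its entries. -/
def imgN (p q tab a b c d : ℕ) : ℕ × ℕ × ℕ × ℕ :=
  let e := (tab >>> (16 * (((a * p + b) * p + c) * p + d))) % 65536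
  (e / (q * q * q) % q, e / (q * q) % q, e / q % q, e % q)

/-- Matrix product of entry tuples modulo `q`. -/
def mulN (q : ℕ) (x y : ℕ × ℕ × ℕ × ℕ) : ℕ × ℕ × ℕ × ℕ :=
  ((x.1 * y.1 + x.2.1 * y.2.2.1) % q, (x.1 * y.2.1 + x.2.1 * y.2.2.2) % q,
    (x.2.2.1 * y.1 + x.2.2.2 * y.2.2.1) % q, (x.2.2.1 * y.2.1 + x.2.2.2 * y.2.2.2) % q)

/-- The check of a packed table. -/
def okN (p q tab : ℕ) : Bool :=
  (List.range p).all fun a => (List.range p).all fun b => (List.range p).all fun c => (List.range p).all fun d =>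
    if (a * d + (p - b) * c) % p = 1 then
      let x := imgN p q tab a b c d
      decide ((x.1 * x.2.2.2 + (q - x.2.1) * x.2.2.1) % q = 1) &&
      decide (imgN p q tab a ((a + b) % p) c ((c + d) % p) = mulN q x (imgN p q tab 1 1 0 1)) &&
      decide (imgN p q tab ((a + b) % p) b ((c + d) % p) d = mulN q x (imgN p q tab 1 0 1 1)) &&
      decide (x = (1, 0, 0, 1) ↔ (a, b, c, d) = (1, 0, 0, 1))
    else true

theorem exists_hom_of_table {p q : ℕ} [Fact p.Prime] [Fact q.Prime] (tab : ℕ) (h : okN p q tab = true) :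
    ∃ ρ : Matrix.SpecialLinearGroup (Fin 2) (ZMod p) →* Matrix.SpecialLinearGroup (Fin 2) (ZMod q),
      Function.Injective ρ := by
  have hp1 : 1 < p := (Fact.out : p.Prime).one_lt
  have hq1 : 1 < q := (Fact.out : q.Prime).one_lt
  set D : Matrix.SpecialLinearGroup (Fin 2) (ZMod p) → ℕ × ℕ × ℕ × ℕ := fun x =>
    imgN p q tab (x.1 0 0).val (x.1 0 1).val
      (x.1 1 0).val (x.1 1 1).val with hD
  have hchk : ∀ a b c d : ℕ, a < p → b < p → c < p → d < p → (a * d + (p - b) * c) % p = 1 →
      ((imgN p q tab a b c d).1 * (imgN p q tab a b c d).2.2.2 +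
          (q - (imgN p q tab a b c d).2.1) * (imgN p q tab a b c d).2.2.1) % q = 1 ∧
      imgN p q tab a ((a + b) % p) c ((c + d) % p) = mulN q (imgN p q tab a b c d) (imgN p q tab 1 1 0 1) ∧
      imgN p q tab ((a + b) % p) b ((c + d) % p) d = mulN q (imgN p q tab a b c d) (imgN p q tab 1 0 1 1) ∧
      (imgN p q tab a b c d = (1, 0, 0, 1) ↔ (a, b, c, d) = (1, 0, 0, 1)) := by
    intro a b c d ha hb hc hd hdet
    simp only [okN, List.all_eq_true, List.mem_range] at h
    have := h a ha b hb c hc d hd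
    rw [if_pos hdet] at this
    simp only [Bool.and_eq_true, decide_eq_true_eq, and_assoc] at this
    exact this
  have hdetp : ∀ x : Matrix.SpecialLinearGroup (Fin 2) (ZMod p),
      ((x.1 0 0).val * (x.1 1 1).val +
        (p - (x.1 0 1).val) * (x.1 1 0).val) % p = 1 := by
    intro x
    have h1 := x.2
    rw [Matrix.det_fin_two] at h1
    have h2 : (((x.1 0 0).val * (x.1 1 1).val +
        (p - (x.1 0 1).val) * (x.1 1 0).val : ℕ) : ZMod p) =
        ((1 : ℕ) : ZMod p) := by
      push_cast [Nat.cast_sub (ZMod.val_lt (x.1 0 1)).le]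
      rw [ZMod.natCast_zmod_val, ZMod.natCast_zmod_val, ZMod.natCast_zmod_val, ZMod.natCast_zmod_val,
        ZMod.natCast_self]
      linear_combination h1
    rw [ZMod.natCast_eq_natCast_iff'] at h2
    rw [h2, Nat.mod_eq_of_lt hp1]
  have hC := fun x : Matrix.SpecialLinearGroup (Fin 2) (ZMod p) =>
    hchk _ _ _ _ (ZMod.val_lt _) (ZMod.val_lt _) (ZMod.val_lt _) (ZMod.val_lt _) (hdetp x)
  have hlt : ∀ a b c d, (imgN p q tab a b c d).1 < q ∧ (imgN p q tab a b c d).2.1 < q ∧
      (imgN p q tab a b c d).2.2.1 < q ∧ (imgN p q tab a b c d).2.2.2 < q := fun a b c d =>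
    ⟨Nat.mod_lt _ (by omega), Nat.mod_lt _ (by omega), Nat.mod_lt _ (by omega), Nat.mod_lt _ (by omega)⟩
  let f : Matrix.SpecialLinearGroup (Fin 2) (ZMod p) → Matrix.SpecialLinearGroup (Fin 2) (ZMod q) := fun x =>
    ⟨!![((D x).1 : ZMod q), ((D x).2.1 : ZMod q); ((D x).2.2.1 : ZMod q), ((D x).2.2.2 : ZMod q)], by
      rw [Matrix.det_fin_two_of]
      have h2 : ((((D x).1 * (D x).2.2.2 + (q - (D x).2.1) * (D x).2.2.1 : ℕ)) : ZMod q) = ((1 : ℕ) : ZMod q) := by
        rw [ZMod.natCast_eq_natCast_iff', (hC x).1, Nat.mod_eq_of_lt hq1]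
      push_cast [Nat.cast_sub (show (D x).2.1 ≤ q from (hlt _ _ _ _).2.1.le)] at h2
      rw [ZMod.natCast_self] at h2
      linear_combination h2⟩
  have hfmul : ∀ x y z, D z = mulN q (D x) (D y) → f z = f x * f y := by
    intro x y z hz
    apply Matrix.SpecialLinearGroup.ext
    intro i j
    rw [Matrix.SpecialLinearGroup.coe_mul]
    show (!![((D z).1 : ZMod q), ((D z).2.1 : ZMod q); ((D z).2.2.1 : ZMod q), ((D z).2.2.2 : ZMod q)]) i j = _
    rw [hz]
    fin_cases i <;> fin_cases j <;> simp [f, mulN, Matrix.mul_apply, Fin.sum_univ_two]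
  have hone : ∀ x, D x = (1, 0, 0, 1) ↔ x = 1 := fun x => by
    rw [hD]
    refine (hC x).2.2.2.trans ⟨fun e => ?_, fun e => ?_⟩
    · simp only [Prod.mk.injEq] at e
      obtain ⟨e1, e2, e3, e4⟩ := e
      apply Matrix.SpecialLinearGroup.ext
      intro i j
      fin_cases i <;> fin_cases j <;> refine ZMod.val_injective p ?_ <;>
        simp [e1, e2, e3, e4, ZMod.val_one]
    · subst e; simp [ZMod.val_one]
  have h1 : f 1 = 1 := by
    apply Matrix.SpecialLinearGroup.ext
    intro i j
    show (!![((D 1).1 : ZMod q), ((D 1).2.1 : ZMod q); ((D 1).2.2.1 : ZMod q), ((D 1).2.2.2 : ZMod q)]) i j = _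
    rw [(hone 1).mpr rfl]
    fin_cases i <;> fin_cases j <;> simp
  let T : Matrix.SpecialLinearGroup (Fin 2) (ZMod p) := ⟨!![1, 1; 0, 1], by rw [Matrix.det_fin_two_of]; ring⟩
  let V : Matrix.SpecialLinearGroup (Fin 2) (ZMod p) := ⟨!![1, 0; 1, 1], by rw [Matrix.det_fin_two_of]; ring⟩
  have hmul := map_mul_of_gens f h1 T V rfl rfl (fun x => hfmul x T _ ?_) (fun x => hfmul x V _ ?_)
  · refine ⟨MonoidHom.mk' f hmul, (injective_iff_map_eq_one _).mpr fun x hx => (hone x).mp ?_⟩
    have hx' : f x = 1 := hx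
    have hv : ∀ (k : ℕ) (r : ℕ), k < q → r < q → ((k : ZMod q) = (r : ZMod q)) → k = r := fun k r hk hr e => by
      rw [ZMod.natCast_eq_natCast_iff', Nat.mod_eq_of_lt hk, Nat.mod_eq_of_lt hr] at e; exact e
    have e00 := congrArg (fun g : Matrix.SpecialLinearGroup (Fin 2) (ZMod q) => g.1 0 0) hx'
    have e01 := congrArg (fun g : Matrix.SpecialLinearGroup (Fin 2) (ZMod q) => g.1 0 1) hx'
    have e10 := congrArg (fun g : Matrix.SpecialLinearGroup (Fin 2) (ZMod q) => g.1 1 0) hx'
    have e11 := congrArg (fun g : Matrix.SpecialLinearGroup (Fin 2) (ZMod q) => g.1 1 1) hx'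
    simp [f] at e00 e01 e10 e11
    obtain ⟨l1, l2, l3, l4⟩ := hlt (x.1 0 0).val (x.1 0 1).val
      (x.1 1 0).val (x.1 1 1).val
    refine Prod.ext (hv _ 1 l1 hq1 ?_) (Prod.ext (hv _ 0 l2 (by omega) ?_) (Prod.ext (hv _ 0 l3 (by omega) ?_) (hv _ 1 l4 hq1 ?_))) <;>
      simpa using (by assumption)
  · have hxT : (x * T).1 = !![x.1 0 0, x.1 0 0 + x.1 0 1; x.1 1 0, x.1 1 0 + x.1 1 1] := by
      rw [Matrix.SpecialLinearGroup.coe_mul]
      show x.1 * !![1, 1; 0, 1] = _
      ext i j; fin_cases i <;> fin_cases j <;> simp [Matrix.mul_apply, Fin.sum_univ_two]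
    show imgN _ _ _ ((x * T).1 0 0).val ((x * T).1 0 1).val ((x * T).1 1 0).val ((x * T).1 1 1).val = _
    rw [hxT]
    simpa [hD, T, ZMod.val_one, ZMod.val_add] using (hC x).2.1
  · have hxV : (x * V).1 = !![x.1 0 0 + x.1 0 1, x.1 0 1; x.1 1 0 + x.1 1 1, x.1 1 1] := by
      rw [Matrix.SpecialLinearGroup.coe_mul]
      show x.1 * !![1, 0; 1, 1] = _
      ext i j; fin_cases i <;> fin_cases j <;> simp [Matrix.mul_apply, Fin.sum_univ_two]
    show imgN _ _ _ ((x * V).1 0 0).val ((x * V).1 0 1).val ((x * V).1 1 0).val ((x * V).1 1 1).val = _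
    rw [hxV]
    simpa [hD, V, ZMod.val_one, ZMod.val_add] using (hC x).2.2.1

/-- The dicyclic group inside `SL₂` over a field with a primitive `2n`-th root of unity. -/
theorem exists_quaternion_hom {F : Type} [Field F] {n : ℕ} (hn : 0 < n) (z : Fˣ) (hz : orderOf z = 2 * n) :
    ∃ ρ : QuaternionGroup n →* Matrix.SpecialLinearGroup (Fin 2) F, Function.Injective ρ := by
  have : NeZero (2 * n) := ⟨by omega⟩
  set e : ZMod (2 * n) → Fˣ := fun i => z ^ i.val with he
  have hadd : ∀ i j, e (i + j) = e i * e j := fun i j => by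
    simp only [he]
    rw [← pow_add, ZMod.val_add, ← pow_mod_orderOf z (i.val + j.val), hz]
  have he0 : e 0 = 1 := by simp [he]
  have hneg : ∀ i, e (-i) = (e i)⁻¹ := fun i => by
    apply eq_inv_of_mul_eq_one_left
    rw [← hadd, neg_add_cancel, he0]
  have hen : (e (n : ZMod (2 * n)) : F) = -1 := by
    have hsq : (e (n : ZMod (2 * n)) : F) * e (n : ZMod (2 * n)) = 1 := by
      rw [← Units.val_mul, ← hadd, ← Nat.cast_add, ← two_mul, ZMod.natCast_self, he0, Units.val_one]
    refine (mul_self_eq_one_iff.mp hsq).resolve_left fun h => ?_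
    have h1 : z ^ ((n : ZMod (2 * n))).val = 1 := Units.ext h
    rw [ZMod.val_natCast, Nat.mod_eq_of_lt (by omega : n < 2 * n)] at h1
    exact absurd (Nat.le_of_dvd hn (hz ▸ orderOf_dvd_of_pow_eq_one h1)) (by omega)
  let f : QuaternionGroup n → Matrix.SpecialLinearGroup (Fin 2) F := fun x => match x with
    | .a i => ⟨!![(e i : F), 0; 0, ((e i)⁻¹ : Fˣ)], by rw [Matrix.det_fin_two_of]; simp⟩
    | .xa i => ⟨!![0, -(((e i)⁻¹ : Fˣ) : F); (e i : F), 0], by rw [Matrix.det_fin_two_of]; simp⟩
  have hval : ∀ i j, ((e (i + j) : Fˣ) : F) = e i * e j := fun i j => by rw [hadd, Units.val_mul]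
  have hsub : ∀ i j, ((e (i - j) : Fˣ) : F) = e i * ((e j)⁻¹ : Fˣ) := fun i j => by
    rw [sub_eq_add_neg, hadd, hneg, Units.val_mul]
  have hmul : ∀ u v, f (u * v) = f u * f v := by
    rintro (i | i) (j | j) <;> apply Matrix.SpecialLinearGroup.ext <;> intro r s <;>
      rw [Matrix.SpecialLinearGroup.coe_mul] <;>
      fin_cases r <;> fin_cases s <;>
      simp [f, QuaternionGroup.a_mul_a, QuaternionGroup.a_mul_xa, QuaternionGroup.xa_mul_a,
        QuaternionGroup.xa_mul_xa, Matrix.mul_apply, Fin.sum_univ_two, hval, hsub, add_sub_assoc, hen] <;>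
      field_simp
  refine ⟨MonoidHom.mk' f hmul, (injective_iff_map_eq_one _).mpr ?_⟩
  rintro (i | i) hi
  · have h1 := congrArg (fun g : Matrix.SpecialLinearGroup (Fin 2) F => g.1 0 0) hi
    simp [f] at h1
    have h2 : z ^ i.val = 1 := h1
    rw [QuaternionGroup.one_def, (ZMod.val_eq_zero i).mp (Nat.eq_zero_of_dvd_of_lt (hz.symm.dvd.trans (orderOf_dvd_of_pow_eq_one h2)) i.val_lt)]
  · exfalso
    have h1 := congrArg (fun g : Matrix.SpecialLinearGroup (Fin 2) F => g.1 0 0) hi
    simp [f] at h1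

end CfsgLib.Frob
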