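import Mathlib
import Cfsg.Prelude.Def_Solvable
import Cfsg.Agent.Lib.Frobenius.Construct
import Cfsg.Agent.Lib.Frobenius.Complement
import Cfsg.Agent.Lib.Frobenius.Kernel
import Cfsg.Agent.Lib.Frobenius.More

/-!
A finite group is a Frobenius complement iff a nonzero function on it sums to zero over all left cosets of
its subgroups of prime order; this does not depend on the coefficients.
-/

set_option autoImplicit false

namespace CfsgLib.FpfCriterion

open Matrix Finset

variable {A : Type*} [Group A]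

/-- A nonzero function summing to zero over the left cosets of subgroups of prime order. -/
def Good (R : Type*) [CommRing R] (A : Type*) [Group A] : Prop :=
  ∃ f : A → R, f ≠ 0 ∧ ∀ c : A, (orderOf c).Prime → ∀ a, ∑ i ∈ range (orderOf c), f (a * c ^ i) = 0

theorem good_of_equiv {R : Type*} [CommRing R] {B : Type*} [Group B] (e : A ≃* B) (h : Good R B) : Good R A := by
  obtain ⟨f, hf0, hf⟩ := h
  refine ⟨f ∘ e, fun h0 => hf0 (funext fun b => by simpa using congrFun h0 (e.symm b)), fun c hc a => ?_⟩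
  have h1 := hf (e c) (by rwa [e.orderOf_eq]) (e a)
  rw [e.orderOf_eq] at h1
  simpa using h1

variable [Fintype A] [DecidableEq A]

/-- The permutation matrix of right translation. -/
def P (R : Type*) [CommRing R] : A →* Matrix A A R where
  toFun c := of fun x y => if x * c = y then 1 else 0
  map_one' := by ext x y; simp [Matrix.one_apply]
  map_mul' a b := by
    ext x y
    rw [Matrix.mul_apply, Finset.sum_eq_single (x * a) (fun j _ hj => by simp [Ne.symm hj])
      (fun h => absurd (mem_univ _) h)]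
    simp [mul_assoc]

theorem P_mul_apply {R : Type*} [CommRing R] (c : A) (N : Matrix A A R) (x y : A) :
    (P R c * N) x y = N (x * c) y := by simp [P, Matrix.mul_apply]

theorem mul_P_apply {R : Type*} [CommRing R] (c : A) (N : Matrix A A R) (x y : A) :
    (N * P R c) x y = N x (y * c⁻¹) := by
  simp [P, Matrix.mul_apply, ← eq_mul_inv_iff_mul_eq]

/-- The sum of the translations by the powers of `c`. -/
noncomputable def S (R : Type*) [CommRing R] (c : A) : Matrix A A R := ∑ i ∈ range (orderOf c), P R (c ^ i)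

theorem S_mulVec {R : Type*} [CommRing R] (c : A) (f : A → R) (x : A) :
    (S R c *ᵥ f) x = ∑ i ∈ range (orderOf c), f (x * c ^ i) := by
  rw [S, Matrix.sum_mulVec, Finset.sum_apply]
  exact sum_congr rfl fun i _ => by simp [P, Matrix.mulVec, dotProduct]

theorem S_mul_apply {R : Type*} [CommRing R] (c : A) (N : Matrix A A R) (x y : A) :
    (S R c * N) x y = ∑ i ∈ range (orderOf c), N (x * c ^ i) y := by
  rw [S, Finset.sum_mul, Matrix.sum_apply]
  exact sum_congr rfl fun i _ => P_mul_apply _ _ _ _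

theorem P_mul_S {R : Type*} [CommRing R] (c : A) (i : ℕ) : P R (c ^ i) * S R c = S R c := by
  induction i with
  | zero => simp
  | succ i ih =>
    have h1 : P R c * S R c = S R c := by
      have h := mul_geom_sum (P R c) (orderOf c)
      rw [← map_pow, pow_orderOf_eq_one, map_one, sub_self, sub_mul, one_mul, sub_eq_zero] at h
      simpa [S, map_pow] using h
    rw [pow_succ, map_mul, mul_assoc, h1, ih]

theorem S_sq {R : Type*} [CommRing R] (c : A) : S R c * S R c = (orderOf c : R) • S R c := by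
  conv_lhs => arg 1; rw [S]
  rw [sum_mul, sum_congr rfl fun i _ => P_mul_S c i, sum_const, card_range, Nat.cast_smul_eq_nsmul]

theorem S_transpose_mul {R : Type*} [CommRing R] (c : A) : (S R c)ᵀ * S R c = (orderOf c : R) • S R c := by
  have ht : ∀ d : A, (P R d)ᵀ = P R d⁻¹ := fun d => by
    ext x y
    simp only [P, MonoidHom.coe_mk, OneHom.coe_mk, transpose_apply, of_apply, eq_mul_inv_iff_mul_eq]
    exact if_congr ⟨fun h => by rw [← h, mul_inv_cancel_right], fun h => by rw [← h, inv_mul_cancel_right]⟩ rfl rfl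
  have hinv : ∀ i, P R (c ^ i)⁻¹ * S R c = S R c := fun i => by
    conv_lhs => arg 2; rw [← P_mul_S c i]
    rw [← mul_assoc, ← map_mul, inv_mul_cancel, map_one, one_mul]
  conv_lhs => arg 1; rw [S, transpose_sum]
  rw [sum_mul, sum_congr rfl fun i _ => by rw [ht, hinv i], sum_const, card_range, Nat.cast_smul_eq_nsmul]

theorem S_pow {R : Type*} [CommRing R] (c : A) (m : ℕ) :
    S R c ^ (m + 1) = (orderOf c : R) ^ m • S R c := by
  induction m with
  | zero => simp
  | succ m ih => rw [pow_succ, ih, smul_mul_assoc, S_sq, smul_smul, ← pow_succ]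

/-- Independence of the coefficients. -/
theorem good_int {p : ℕ} [Fact p.Prime] (hp : ¬ p ∣ Fintype.card A) (h : Good (ZMod p) A) : Good ℤ A := by
  classical
  obtain ⟨f₀, hf0, hf₀⟩ := h
  obtain ⟨a₀, ha₀⟩ : ∃ a, f₀ a ≠ 0 := by
    by_contra hc
    push Not at hc
    exact hf0 (funext hc)
  set f : A → ZMod p := fun x => f₀ (a₀ * x) with hf
  have hfc : ∀ c : A, (orderOf c).Prime → ∀ a, ∑ i ∈ range (orderOf c), f (a * c ^ i) = 0 := fun c hc a => by
    simpa [hf, mul_assoc] using hf₀ c hc (a₀ * a)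
  choose F hF using fun x => ZMod.intCast_surjective (f x)
  let M : Matrix A A ℤ := of fun x y => F (x * y⁻¹)
  set T := (univ : Finset A).filter fun c => (orderOf c).Prime
  set E : Matrix A A ℤ := ∑ c ∈ T, S ℤ c with hE
  have hdiv : ∀ c ∈ T, ∀ m, ∀ x y, ((p : ℤ) ^ (m + 1)) ∣ (S ℤ c * M ^ (m + 1)) x y := by
    intro c hc m
    have hcp : (orderOf c).Prime := (mem_filter.mp hc).2
    have h1 : ∀ x y, (p : ℤ) ∣ (S ℤ c * M) x y := fun x y => by
      rw [← ZMod.intCast_zmod_eq_zero_iff_dvd, S_mul_apply, Int.cast_sum]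
      have he : ∀ i, x * c ^ i * y⁻¹ = x * y⁻¹ * (y * c * y⁻¹) ^ i := fun i => by rw [conj_pow]; group
      have ho : orderOf (y * c * y⁻¹) = orderOf c := (MulAut.conj y).orderOf_eq c
      have := hfc (y * c * y⁻¹) (ho ▸ hcp) (x * y⁻¹)
      rw [ho] at this
      simpa [M, hF, he] using this
    choose X hX using h1
    have h2 : S ℤ c * M = (p : ℤ) • (of X : Matrix A A ℤ) := by ext x y; simp [hX]
    have hcomm : Commute (S ℤ c) M := by
      refine Commute.sum_left _ _ _ fun i _ => ?_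
      ext x y
      rw [P_mul_apply, mul_P_apply]
      simp [M, mul_assoc]
    have h3 : (orderOf c : ℤ) ^ m • (S ℤ c * M ^ (m + 1)) = (p : ℤ) ^ (m + 1) • (of X : Matrix A A ℤ) ^ (m + 1) := by
      rw [← smul_pow, ← h2, hcomm.mul_pow, S_pow, smul_mul_assoc]
    intro x y
    have h4 := congrFun (congrFun h3 x) y
    simp only [Matrix.smul_apply, smul_eq_mul] at h4
    have hcop : IsCoprime ((p : ℤ) ^ (m + 1)) ((orderOf c : ℤ) ^ m) := by
      have : (Nat.Coprime p (orderOf c)) := ((Nat.coprime_primes Fact.out hcp).mpr fun e =>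
        hp (e ▸ orderOf_dvd_card))
      exact (Nat.isCoprime_iff_coprime.mpr this).pow
    exact hcop.dvd_of_dvd_mul_left ⟨_, h4⟩
  have hdet : E.det = 0 := by
    by_contra hd
    -- `M` is not nilpotent modulo `p`
    have hnil : ∀ m, ∃ x y, ¬ (p : ℤ) ∣ (M ^ m) x y := fun m => by
      by_contra hc
      push Not at hc
      have h0 : IsNilpotent (M.map (Int.castRingHom (ZMod p))) := ⟨m, by
        rw [← RingHom.mapMatrix_apply, ← map_pow]
        ext x y
        simpa [ZMod.intCast_zmod_eq_zero_iff_dvd] using hc x y⟩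
      have h1 := (Matrix.isNilpotent_trace_of_isNilpotent h0).eq_zero
      rw [show Matrix.trace (M.map (Int.castRingHom (ZMod p))) = (Fintype.card A : ZMod p) * f 1 by
        simp [Matrix.trace, M, hF]] at h1
      rcases mul_eq_zero.mp h1 with h1 | h1
      · exact hp ((ZMod.natCast_eq_zero_iff _ p).mp h1)
      · exact ha₀ (by simpa [hf] using h1)
    obtain ⟨n, hn⟩ : ∃ n, ¬ (p : ℤ) ^ (n + 1) ∣ E.det := by
      by_contra hc
      push Not at hc
      refine hd (Int.natAbs_eq_zero.mp ?_)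
      by_contra hne
      have h1 := hc (E.det.natAbs)
      rw [← Int.natAbs_dvd_natAbs, Int.natAbs_pow, Int.natAbs_natCast] at h1
      have h2 := Nat.le_of_dvd (Nat.pos_of_ne_zero hne) h1
      have h3 := Nat.lt_pow_self (n := E.det.natAbs + 1) (Fact.out : p.Prime).one_lt
      omega
    obtain ⟨x, y, hxy⟩ := hnil (n + 1)
    have h1 : E.det • M ^ (n + 1) = E.adjugate * (E * M ^ (n + 1)) := by
      rw [← mul_assoc, adjugate_mul, smul_mul_assoc, one_mul]
    have h2 : ∀ a b, (p : ℤ) ^ (n + 1) ∣ (E * M ^ (n + 1)) a b := fun a b => by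
      rw [hE, sum_mul, Matrix.sum_apply]
      exact dvd_sum fun c hc => hdiv c hc n a b
    have h3 : (p : ℤ) ^ (n + 1) ∣ E.det * (M ^ (n + 1)) x y := by
      rw [← smul_eq_mul, ← Matrix.smul_apply, h1, Matrix.mul_apply]
      exact dvd_sum fun a _ => (h2 a y).mul_left _
    have hcop : IsCoprime ((p : ℤ) ^ (n + 1)) ((M ^ (n + 1)) x y) :=
      ((Nat.prime_iff_prime_int.mp Fact.out).irreducible.coprime_iff_not_dvd.mpr hxy).pow_left
    exact hn (hcop.dvd_of_dvd_mul_right h3)
  obtain ⟨h, hh0, hh⟩ := Matrix.exists_mulVec_eq_zero_iff.mpr hdet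
  refine ⟨h, hh0, fun c hc a => ?_⟩
  have hsum : ∑ c ∈ T, h ⬝ᵥ (S ℤ c *ᵥ h) = 0 := by
    rw [← dotProduct_sum, ← Matrix.sum_mulVec, ← hE, hh, dotProduct_zero]
  have hsq : ∀ c : A, (orderOf c : ℤ) * (h ⬝ᵥ (S ℤ c *ᵥ h)) = (S ℤ c *ᵥ h) ⬝ᵥ (S ℤ c *ᵥ h) := fun c => by
    conv_rhs => arg 1; rw [← Matrix.vecMul_transpose]
    rw [← dotProduct_mulVec, mulVec_mulVec, S_transpose_mul, smul_mulVec, dotProduct_smul, smul_eq_mul]
  have hnn : ∀ c ∈ T, 0 ≤ h ⬝ᵥ (S ℤ c *ᵥ h) := fun c hc => by
    have hpos : (0 : ℤ) < orderOf c := by exact_mod_cast (mem_filter.mp hc).2.pos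
    refine nonneg_of_mul_nonneg_right ?_ hpos
    rw [hsq]
    exact Finset.sum_nonneg fun i _ => mul_self_nonneg _
  have h0 := (sum_eq_zero_iff_of_nonneg hnn).mp hsum c (mem_filter.mpr ⟨mem_univ _, hc⟩)
  have hz : S ℤ c *ᵥ h = 0 := dotProduct_self_eq_zero.mp (by rw [← hsq, h0, mul_zero])
  rw [← S_mulVec, hz]
  rfl

omit [DecidableEq A] in
theorem good_zmod (h : Good ℤ A) (q : ℕ) [Fact q.Prime] : Good (ZMod q) A := by
  obtain ⟨f, hf0, hf⟩ := h
  obtain ⟨g, hg, hg1⟩ := Finset.extract_gcd f (univ_nonempty : (univ : Finset A).Nonempty)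
  set d := (univ : Finset A).gcd f
  have hd : d ≠ 0 := fun e => hf0 (funext fun x => (Finset.gcd_eq_zero_iff.mp e) x (mem_univ x))
  refine ⟨fun x => (g x : ZMod q), fun e => ?_, fun c hc a => ?_⟩
  · have : (q : ℤ) ∣ (univ : Finset A).gcd g := Finset.dvd_gcd fun x _ =>
      (ZMod.intCast_zmod_eq_zero_iff_dvd _ _).mp (congrFun e x)
    rw [hg1] at this
    exact (Nat.prime_iff_prime_int.mp Fact.out).not_dvd_one this
  · have h1 := hf c hc a
    simp only [fun x => hg x (mem_univ x)] at h1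
    rw [← mul_sum] at h1
    have h2 := (mul_eq_zero.mp h1).resolve_left hd
    rw [← Int.cast_sum, h2, Int.cast_zero]

omit [Fintype A] [DecidableEq A] in
theorem good_prod [Finite A] {B : Type*} [Group B] [Finite B] {R : Type*} [CommRing R] [IsDomain R]
    (hcop : (Nat.card A).Coprime (Nat.card B)) (hA : Good R A) (hB : Good R B) : Good R (A × B) := by
  obtain ⟨f, hf0, hf⟩ := hA
  obtain ⟨g, hg0, hg⟩ := hB
  obtain ⟨a₀, ha₀⟩ : ∃ a, f a ≠ 0 := by
    by_contra hc; push Not at hc; exact hf0 (funext hc)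
  obtain ⟨b₀, hb₀⟩ : ∃ b, g b ≠ 0 := by
    by_contra hc; push Not at hc; exact hg0 (funext hc)
  refine ⟨fun x => f x.1 * g x.2, fun e => mul_ne_zero ha₀ hb₀ (congrFun e (a₀, b₀)), fun c hc a => ?_⟩
  obtain ⟨c₁, c₂⟩ := c
  rw [Prod.orderOf] at hc ⊢
  rcases eq_or_ne c₁ 1 with rfl | h1
  · rw [orderOf_one, Nat.lcm_one_left] at hc ⊢
    simp only [Prod.pow_mk, one_pow, Prod.fst_mul, Prod.snd_mul, mul_one]
    rw [← mul_sum, hg c₂ hc, mul_zero]
  rcases eq_or_ne c₂ 1 with rfl | h2
  · rw [orderOf_one, Nat.lcm_one_right] at hc ⊢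
    simp only [Prod.pow_mk, one_pow, Prod.fst_mul, Prod.snd_mul, mul_one]
    rw [← sum_mul, hf c₁ hc, zero_mul]
  exfalso
  have e1 := (hc.eq_one_or_self_of_dvd _ (Nat.dvd_lcm_left _ _)).resolve_left
    (orderOf_eq_one_iff.not.mpr h1)
  have e2 := (hc.eq_one_or_self_of_dvd _ (Nat.dvd_lcm_right _ _)).resolve_left
    (orderOf_eq_one_iff.not.mpr h2)
  have := Nat.dvd_gcd (e1 ▸ orderOf_dvd_natCard c₁) (e2 ▸ orderOf_dvd_natCard c₂)
  rw [hcop] at this
  exact hc.ne_one (Nat.dvd_one.mp this)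

omit [DecidableEq A] in
/-- A group embedded in a Frobenius complement has a good function in a characteristic prime to its order. -/
theorem good_of_embedding {L : Type*} [Group L] [Finite L] {H : Subgroup L} (hH : Cfsg.IsFrobeniusComplement H)
    (j : A →* L) (hj : Function.Injective j) (hjH : ∀ a, j a ∈ H) :
    ∃ p : ℕ, p.Prime ∧ ¬ p ∣ Fintype.card A ∧ Good (ZMod p) A := by
  classical
  obtain ⟨K, -, hKn, hc⟩ := CfsgLib.Frob.exists_kernel hH
  have hfpf : ∀ h ∈ H, h ≠ 1 → K ⊓ Subgroup.centralizer {h} = ⊥ :=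
    fun h hh h1 => CfsgLib.Frob.fpf_of_frob hc.disjoint hH hh h1
  obtain ⟨V, hVc, hV, hnorm, hVfpf⟩ :=
    CfsgLib.Frob.exists_abelian_module hc (CfsgLib.Frob.kernel_ne_bot hH hc) hH.1 hfpf
  obtain ⟨p, hp, hpV⟩ := Nat.exists_prime_and_dvd (show Nat.card V ≠ 1 from fun e => hV (Subgroup.card_eq_one.mp e))
  haveI := Fact.mk hp
  refine ⟨p, hp, fun hd => ?_, ?_⟩
  · obtain ⟨a, ha⟩ := exists_prime_orderOf_dvd_card p hd
    have ho : orderOf (j a) = p := by rw [orderOf_injective j hj, ha]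
    have h1 : j a ≠ 1 := fun e => hp.ne_one (by rw [← ho, e, orderOf_one])
    exact CfsgLib.Frob.not_dvd_card_of_fpf (hnorm (hjH a)) ho (hVfpf _ (hjH a) h1) hpV
  letI : CommGroup V := { (inferInstance : Group V) with mul_comm := hVc.is_comm.comm }
  set Ω : Subgroup V := (powMonoidHom p : V →* V).ker with hΩ
  have hmem : ∀ (a : A) (v : Ω), j a * ((v : V) : L) * (j a)⁻¹ ∈ V := fun a v =>
    (Subgroup.mem_normalizer_iff.mp (hnorm (hjH a)) _).mp (v : V).2
  have hpow : ∀ (a : A) (v : Ω), (⟨_, hmem a v⟩ : V) ∈ Ω := fun a v => by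
    refine MonoidHom.mem_ker.mpr (Subtype.ext ?_)
    show (j a * ((v : V) : L) * (j a)⁻¹) ^ p = 1
    have h1 : ((v : V) : L) ^ p = 1 := congrArg Subtype.val (MonoidHom.mem_ker.mp v.2)
    rw [conj_pow, h1, mul_one, mul_inv_cancel]
  let T : A → Additive Ω →+ Additive Ω := fun a =>
    { toFun := fun v => Additive.ofMul ⟨⟨_, hmem a v.toMul⟩, hpow a v.toMul⟩
      map_zero' := congrArg Additive.ofMul (Subtype.ext (Subtype.ext (by
        show j a * 1 * (j a)⁻¹ = 1
        rw [mul_one, mul_inv_cancel])))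
      map_add' := fun v w => congrArg Additive.ofMul (Subtype.ext (Subtype.ext (by
        show j a * (((v.toMul : Ω) : V) * ((w.toMul : Ω) : V) : L) * (j a)⁻¹ = _
        exact conj_mul.symm))) }
  have hT : ∀ a b v, T (a * b) v = T a (T b v) := fun a b v => congrArg Additive.ofMul
    (Subtype.ext (Subtype.ext (by
      show j (a * b) * ((v.toMul : Ω) : V) * (j (a * b))⁻¹ = j a * (j b * ((v.toMul : Ω) : V) * (j b)⁻¹) * (j a)⁻¹
      rw [map_mul]; group)))
  have hT1 : ∀ v, T 1 v = v := fun v => congrArg Additive.ofMul (Subtype.ext (Subtype.ext (by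
      show j 1 * ((v.toMul : Ω) : V) * (j 1)⁻¹ = ((v.toMul : Ω) : V)
      rw [map_one]; group)))
  have hfix : ∀ c : A, c ≠ 1 → ∀ v, T c v = v → v = 0 := fun c hc v hv => by
    have h1 : j c * ((v.toMul : Ω) : V) * (j c)⁻¹ = ((v.toMul : Ω) : V) :=
      congrArg (fun w => (((Additive.toMul w : Ω) : V) : L)) hv
    have h2 : (((v.toMul : Ω) : V) : L) ∈ V ⊓ Subgroup.centralizer {j c} :=
      ⟨(v.toMul : Ω).1.2, Subgroup.mem_centralizer_singleton_iff.mpr (mul_inv_eq_iff_eq_mul.mp h1).symm⟩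
    rw [hVfpf _ (hjH c) (fun e => hc (hj (e.trans (map_one j).symm))), Subgroup.mem_bot] at h2
    exact Additive.toMul.injective (Subtype.ext (Subtype.ext h2))
  haveI : Module (ZMod p) (Additive Ω) := AddCommGroup.zmodModule fun v =>
    Additive.toMul.injective (Subtype.ext (MonoidHom.mem_ker.mp (v.toMul : Ω).2))
  obtain ⟨v, hv⟩ := exists_prime_orderOf_dvd_card' (G := V) p hpV
  set w : Additive Ω := Additive.ofMul ⟨v, MonoidHom.mem_ker.mpr (by
    show v ^ p = 1
    rw [← hv, pow_orderOf_eq_one])⟩ with hw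
  have hw0 : w ≠ 0 := fun e => hp.ne_one (by
    rw [← hv, show v = 1 from congrArg Subtype.val (Additive.ofMul.injective e), orderOf_one])
  obtain ⟨φ, hφ⟩ : ∃ φ : Module.Dual (ZMod p) (Additive Ω), φ w ≠ 0 := by
    by_contra hc
    push Not at hc
    exact hw0 ((Module.forall_dual_apply_eq_zero_iff (ZMod p) w).mp hc)
  refine ⟨fun a => φ (T a w), fun e => hφ (by simpa [hT1] using congrFun e 1), fun c hc a => ?_⟩
  have hc1 : c ≠ 1 := fun e => hc.ne_one (by rw [e, orderOf_one])
  have hz : ∑ i ∈ range (orderOf c), T (c ^ i) w = 0 := hfix c hc1 _ (by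
    rw [map_sum]
    simp only [← hT, ← pow_succ']
    have h1 := Finset.sum_range_succ (fun i => T (c ^ i) w) (orderOf c)
    have h2 := Finset.sum_range_succ' (fun i => T (c ^ i) w) (orderOf c)
    rw [pow_orderOf_eq_one] at h1
    rw [pow_zero] at h2
    exact add_right_cancel (h2.symm.trans h1))
  simp only [hT, ← map_sum, hz, map_zero]

omit [DecidableEq A] in
/-- A good function over a field of characteristic prime to the order gives a Frobenius complement. -/
theorem frob_of_good [Nontrivial A] {q : ℕ} [Fact q.Prime] (hq : ¬ q ∣ Fintype.card A) (h : Good (ZMod q) A) :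
    ∃ (L : Type) (_ : Group L) (_ : Finite L) (H : Subgroup L), Cfsg.IsFrobeniusComplement H ∧ Nonempty (A ≃* H) := by
  classical
  let B := (((Fintype.equivFin A).permCongrHom.toMonoidHom).comp (MulAction.toPermHom A A)).range
  have hinj : Function.Injective (((Fintype.equivFin A).permCongrHom.toMonoidHom).comp (MulAction.toPermHom A A)) :=
    (Fintype.equivFin A).permCongrHom.injective.comp MulAction.toPerm_injective
  have e : A ≃* B := MonoidHom.ofInjective hinj
  obtain ⟨f, hf0, hf⟩ := good_of_equiv e.symm h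
  haveI : Nontrivial B := e.symm.toEquiv.nontrivial
  let W : AddSubgroup (B → ZMod q) :=
    { carrier := {g | ∀ c : B, (orderOf c).Prime → ∀ a, ∑ i ∈ range (orderOf c), g (a * c ^ i) = 0}
      zero_mem' := fun c _ a => sum_const_zero
      add_mem' := fun {g g'} hg hg' c hc a => by simp [sum_add_distrib, hg c hc a, hg' c hc a]
      neg_mem' := fun {g} hg c hc a => by simp [hg c hc a] }
  have hW : Nontrivial W := ⟨⟨⟨f, hf⟩, 0, fun e => hf0 (congrArg Subtype.val e)⟩⟩
  let σ : B → Multiplicative W → Multiplicative W := fun b g =>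
    Multiplicative.ofAdd ⟨fun x => (g.toAdd : W).1 (b⁻¹ * x), fun c hc a => by
      simpa [mul_assoc] using (g.toAdd : W).2 c hc (b⁻¹ * a)⟩
  have hσ : ∀ b b' g, σ (b * b') g = σ b (σ b' g) := fun b b' g =>
    congrArg Multiplicative.ofAdd (Subtype.ext (funext fun x => by simp [σ, mul_assoc]))
  have hσ1 : ∀ g, σ 1 g = g := fun g =>
    congrArg Multiplicative.ofAdd (Subtype.ext (funext fun x => by simp; rfl))
  let ψ : B →* MulAut (Multiplicative W) := MonoidHom.mk' (fun b =>
    { toFun := σ b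
      invFun := σ b⁻¹
      left_inv := fun g => by rw [← hσ, inv_mul_cancel, hσ1]
      right_inv := fun g => by rw [← hσ, mul_inv_cancel, hσ1]
      map_mul' := fun g g' => rfl }) fun b b' => MulEquiv.ext (hσ b b')
  obtain ⟨L, iG, iF, C, hC, ⟨eC⟩, -⟩ := CfsgLib.Frob.exists_frob_of_aut ψ fun b hb g hg => by
    obtain ⟨r, hr, hrd⟩ := Nat.exists_prime_and_dvd (show orderOf b ≠ 1 from orderOf_eq_one_iff.not.mpr hb)
    set c := b ^ (orderOf b / r) with hcdef
    have hoc : orderOf c = r := orderOf_pow_orderOf_div (orderOf_pos b).ne' hrd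
    have hfixpow : ∀ n : ℕ, σ (b ^ n) g = g := fun n => by
      induction n with
      | zero => rw [pow_zero, hσ1]
      | succ n ih => rw [pow_succ, hσ, show σ b g = g from hg, ih]
    set u : B → ZMod q := (g.toAdd : W).1
    have hu : ∀ (n : ℕ) x, u ((b ^ n)⁻¹ * x) = u x := fun n x =>
      congrArg (fun w : Multiplicative W => (w.toAdd : W).1 x) (hfixpow n)
    refine Multiplicative.toAdd.injective (Subtype.ext (funext fun x => ?_))
    show u x = 0
    have ho : orderOf (x⁻¹ * c * x) = r := by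
      rw [show x⁻¹ * c * x = MulAut.conj x⁻¹ c by simp, (MulAut.conj x⁻¹).orderOf_eq, hoc]
    have h1 := (g.toAdd : W).2 (x⁻¹ * c * x) (ho ▸ hr) x
    rw [ho] at h1
    have h2 : ∀ i, u (x * (x⁻¹ * c * x) ^ i) = u x := fun i => by
      rw [show x * (x⁻¹ * c * x) ^ i = b ^ ((orderOf b / r) * i) * x by
        rw [show x⁻¹ * c * x = MulAut.conj x⁻¹ c by simp, ← map_pow, pow_mul]; simp [hcdef, mul_assoc]]
      have := hu ((orderOf b / r) * i) (b ^ ((orderOf b / r) * i) * x)
      rw [inv_mul_cancel_left] at this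
      exact this.symm
    rw [sum_congr rfl fun i _ => h2 i, sum_const, card_range, nsmul_eq_mul] at h1
    refine (mul_eq_zero.mp h1).resolve_left fun h0 => hq ?_
    rw [ZMod.natCast_eq_zero_iff] at h0
    exact h0.trans (hoc ▸ (orderOf_dvd_natCard c).trans (by rw [Nat.card_congr e.symm.toEquiv, Nat.card_eq_fintype_card]))
  exact ⟨L, iG, iF, C, hC, ⟨e.trans eC⟩⟩

end CfsgLib.FpfCriterion
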