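import Mathlib

/-!
A quaternion group acting without fixed points forces a square order.
-/

set_option autoImplicit false

namespace CfsgLib.Frob

universe u

/-- `-1` is a sum of two squares modulo any odd number. -/
theorem exists_sq_add_sq {m : ℕ} (hm : Odd m) : ∃ a b : ℕ, m ∣ a ^ 2 + b ^ 2 + 1 := by
  obtain ⟨c, hc⟩ := hm
  have h4m : Nat.Coprime 4 m := by
    have : Nat.Coprime 2 m := Nat.prime_two.coprime_iff_not_dvd.mpr (by omega)
    simpa using this.pow_left 2
  obtain ⟨r, hr4, hrm⟩ := Nat.chineseRemainder h4m 1 (m - 1)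
  have hcop : r.Coprime (4 * m) := by
    refine Nat.Coprime.mul_right ?_ ?_
    · have := hr4.gcd_eq
      rw [Nat.coprime_iff_gcd_eq_one, this]; simp
    · have h2 := hrm.gcd_eq
      rw [Nat.coprime_iff_gcd_eq_one, h2]
      have : Nat.Coprime (m - 1) m := by
        rw [Nat.coprime_comm, Nat.coprime_self_sub_right (by omega)]
        simp
      exact this
  obtain ⟨p, -, hp, hpr⟩ := Nat.forall_exists_prime_gt_and_modEq 0 (q := 4 * m) (by omega) hcop
  have := Fact.mk hp
  have hp4 : p % 4 = 1 := ((hpr.of_mul_right m).trans hr4)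
  obtain ⟨a, b, hab⟩ := Nat.Prime.sq_add_sq (p := p) (by omega)
  refine ⟨a, b, ?_⟩
  rw [hab]
  have h1 : p ≡ m - 1 [MOD m] := (hpr.of_mul_left 4).trans hrm
  have h2 : p + 1 ≡ m [MOD m] := by
    have := h1.add_right 1
    rwa [Nat.sub_add_cancel (by omega)] at this
  exact (Nat.modEq_zero_iff_dvd).mp (h2.trans (Nat.modEq_zero_iff_dvd.mpr dvd_rfl))

/-- Two anticommuting automorphisms squaring to inversion force a square order. -/
theorem isSquare_card_of_anticommuting {K : Type u} [CommGroup K] [Finite K] (hodd : Odd (Nat.card K))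
    (i j : K ≃* K) (hi : ∀ x, i (i x) = x⁻¹) (hj : ∀ x, j (j x) = x⁻¹)
    (hij : ∀ x, i (j x) = (j (i x))⁻¹) : IsSquare (Nat.card K) := by
  obtain ⟨a, b, hab⟩ := exists_sq_add_sq hodd
  have hpow : ∀ (x : K) (n : ℕ), Nat.card K ∣ n → x ^ n = 1 := fun x n hn =>
    orderOf_dvd_iff_pow_eq_one.mp ((orderOf_dvd_natCard x).trans hn)
  let s : K →* K := (powMonoidHom a).comp i.toMonoidHom * (powMonoidHom b).comp j.toMonoidHom
  have hs : ∀ x, s x = i x ^ a * j x ^ b := fun _ => rfl
  have hss : ∀ x, s (s x) = x := by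
    intro x
    simp only [hs, map_mul, map_pow, mul_pow, ← pow_mul]
    rw [hi, hj, hij]
    calc x⁻¹ ^ (a * a) * (j (i x))⁻¹ ^ (b * a) * (j (i x) ^ (a * b) * x⁻¹ ^ (b * b))
        = (x ^ (a * a) * x ^ (b * b))⁻¹ := by
          rw [inv_pow, inv_pow, inv_pow, mul_comm b a, mul_inv]
          rw [mul_assoc, inv_mul_cancel_left]
      _ = x := by
          rw [← pow_add, inv_eq_iff_mul_eq_one, ← pow_succ]
          exact hpow x _ (by convert hab using 1; ring)
  -- the composite swaps the two eigenspaces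
  have hiii : ∀ x, i (j (i x)) = j x := fun x => by rw [hij, hi, map_inv, inv_inv]
  have hk : ∀ x, s (i (j x)) = (i (j (s x)))⁻¹ := by
    intro x
    simp only [hs, map_mul, map_pow, hiii, hj, map_inv]
    rw [hi, show j (i (j x)) = i x from by rw [← inv_inv (j (i (j x))), ← hij, hj, map_inv, inv_inv],
      mul_inv, inv_pow, inv_pow, inv_inv]
  obtain ⟨c, hc⟩ := hodd
  have hsq : ∀ x : K, (x ^ (c + 1)) ^ 2 = x := fun x => by
    rw [← pow_mul, show (c + 1) * 2 = Nat.card K + 1 by omega, pow_succ, pow_card_eq_one', one_mul]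
  let P : Subgroup K := s.eqLocus (MonoidHom.id K)
  let M : Subgroup K := s.eqLocus ((MonoidHom.id K)⁻¹)
  have hP : ∀ x, x ∈ P ↔ s x = x := fun _ => Iff.rfl
  have hM : ∀ x, x ∈ M ↔ s x = x⁻¹ := fun _ => Iff.rfl
  have hbij : Function.Bijective (fun z : P × M => (z.1 : K) * z.2) := by
    refine ⟨?_, fun y => ?_⟩
    · rintro ⟨u, v⟩ ⟨u', v'⟩ h
      have h' : (u : K) * v = u' * v' := h
      have h1 := congrArg s h'
      rw [map_mul, map_mul, (hP _).mp u.2, (hP _).mp u'.2, (hM _).mp v.2, (hM _).mp v'.2] at h1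
      have h2 : (u : K) ^ 2 = (u' : K) ^ 2 := by
        have := congrArg₂ (· * ·) h' h1
        simp only [mul_mul_mul_comm _ (v : K), mul_mul_mul_comm _ (v' : K), mul_inv_cancel, mul_one] at this
        rw [sq, sq]; exact this
      have h3 : (u : K) = u' := by
        rw [← hsq u, ← hsq u', ← pow_mul, ← pow_mul, mul_comm (c + 1) 2, pow_mul, pow_mul, h2]
      rw [h3] at h'
      exact Prod.ext (Subtype.ext h3) (Subtype.ext (mul_left_cancel h'))
    · set w := y ^ (c + 1)
      refine ⟨⟨⟨w * s w, ?_⟩, ⟨w * (s w)⁻¹, ?_⟩⟩, ?_⟩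
      · rw [hP, map_mul, hss, mul_comm]
      · rw [hM, map_mul, map_inv, hss, mul_inv, inv_inv, mul_comm]
      · show w * s w * (w * (s w)⁻¹) = y
        rw [mul_mul_mul_comm, mul_inv_cancel, mul_one, ← sq, hsq]
  have hPM : Nat.card P = Nat.card M := by
    refine le_antisymm (Nat.card_le_card_of_injective (fun u : P => (⟨i (j u), ?_⟩ : M)) ?_)
      (Nat.card_le_card_of_injective (fun u : M => (⟨i (j u), ?_⟩ : P)) ?_)
    · rw [hM, hk, (hP _).mp u.2]
    · exact fun u v h => Subtype.ext (j.injective (i.injective (congrArg Subtype.val h)))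
    · rw [hP, hk, (hM _).mp u.2, map_inv, map_inv, inv_inv]
    · exact fun u v h => Subtype.ext (j.injective (i.injective (congrArg Subtype.val h)))
  exact ⟨Nat.card P, by rw [← Nat.card_congr (Equiv.ofBijective _ hbij), Nat.card_prod, hPM]⟩

/-- The universal property of the generalised quaternion group. -/
theorem exists_quat_hom {M : Type u} [Group M] {n : ℕ} [NeZero n] (a x : M) (ha : a ^ (2 * n) = 1)
    (hx : x ^ 2 = a ^ n) (hconj : x * a * x⁻¹ = a⁻¹) :
    ∃ f : QuaternionGroup n →* M, f (.a 1) = a ∧ f (.xa 0) = x := by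
  have : NeZero (2 * n) := ⟨by have := NeZero.ne n; omega⟩
  set e : ZMod (2 * n) → M := fun i => a ^ i.val with he
  have hmod : ∀ k : ℕ, a ^ (k % (2 * n)) = a ^ k := fun k => (pow_eq_pow_mod k ha).symm
  have hadd : ∀ i j, e (i + j) = e i * e j := fun i j => by
    simp only [he]
    rw [← pow_add, ZMod.val_add, hmod]
  have he0 : e 0 = 1 := by simp [he]
  have hneg : ∀ i, e (-i) = (e i)⁻¹ := fun i => by
    apply eq_inv_of_mul_eq_one_left
    rw [← hadd, neg_add_cancel, he0]
  have hsub : ∀ i j, e (j - i) = (e i)⁻¹ * e j := fun i j => by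
    rw [sub_eq_add_neg, add_comm, hadd, hneg]
  have heM : e (n : ZMod (2 * n)) = x ^ 2 := by
    simp only [he]
    rw [ZMod.val_natCast, hx, hmod]
  have hxe : ∀ i, x * e i = (e i)⁻¹ * x := fun i => by
    have h1 : x * e i * x⁻¹ = (e i)⁻¹ := by
      simp only [he]
      rw [← MulAut.conj_apply, map_pow, MulAut.conj_apply, hconj, inv_pow]
    rw [← h1]; group
  have hex : ∀ i, e i * x = x * (e i)⁻¹ := fun i => by
    have := hxe (-i)
    rw [hneg, inv_inv] at this
    exact this.symm
  let f : QuaternionGroup n → M := fun q => match q with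
    | .a i => e i
    | .xa i => x * e i
  have hmul : ∀ u v, f (u * v) = f u * f v := by
    rintro (i | i) (j | j)
    · rw [QuaternionGroup.a_mul_a]; exact hadd i j
    · rw [QuaternionGroup.a_mul_xa]
      show x * e (j - i) = e i * (x * e j)
      rw [← mul_assoc, hex, mul_assoc, hsub]
    · rw [QuaternionGroup.xa_mul_a]
      show x * e (i + j) = x * e i * e j
      rw [mul_assoc, hadd]
    · rw [QuaternionGroup.xa_mul_xa]
      show e ((n : ZMod (2 * n)) + j - i) = x * e i * (x * e j)
      rw [show x * e i * (x * e j) = x * (e i * x) * e j by group, hex, add_sub_assoc, hadd, heM, hsub, pow_two]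
      group
  refine ⟨MonoidHom.mk' f hmul, ?_, ?_⟩
  · show a ^ (1 : ZMod (2 * n)).val = a
    have : Fact (1 < 2 * n) := ⟨by have := NeZero.ne n; omega⟩
    rw [ZMod.val_one, pow_one]
  · show x * e 0 = x
    rw [he0, mul_one]

end CfsgLib.Frob
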